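import Cfsg.Agent.Lib.U43Rec.AutChecks
import Cfsg.Agent.Lib.SchurMult.U43Hom
import Mathlib.GroupTheory.GroupAction.Quotient

/-!
The automorphism group of the model graph has at most eight times as many elements as `U4(3)`; a simple group
of that order acting faithfully on the graph is isomorphic to `PSU(4,3)`.
-/

set_option autoImplicit false
set_option maxRecDepth 100000
set_option linter.unusedSectionVars false
set_option linter.style.haveILetI false

namespace Cfsg.Agent.U43Rec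

open Subgroup Cfsg.Agent.PermCert
open Cfsg.Agent.SchurMult (u43Gens u43_cert u43_order exists_u43_hom)

/-- The automorphism group of the model graph. -/
def autM : Subgroup (Equiv.Perm (Fin 112)) where
  carrier := {σ | ∀ a b, adjM (σ a) (σ b) = adjM a b}
  one_mem' := fun _ _ => rfl
  mul_mem' := fun {σ τ} hσ hτ a b => (hσ (τ a) (τ b)).trans (hτ a b)
  inv_mem' := fun {σ} hσ a b => by
    have h := hσ (σ⁻¹ a) (σ⁻¹ b)
    simp only [← Equiv.Perm.mul_apply, mul_inv_cancel, Equiv.Perm.one_apply] at h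
    exact h.symm

/-- An orbit bound. -/
theorem card_le_mul {α : Type*} [Fintype α] [DecidableEq α] (H : Subgroup (Equiv.Perm α)) (a : α) (S : Finset α)
    (hS : ∀ σ ∈ H, σ a ∈ S) {n : ℕ}
    (hn : Nat.card ↥(H ⊓ MulAction.stabilizer (Equiv.Perm α) a) ≤ n) : Nat.card H ≤ S.card * n := by
  have h1 := (MulAction.stabilizer H a).index_mul_card
  rw [MulAction.index_stabilizer] at h1
  have ho : (MulAction.orbit H a).ncard ≤ S.card := by
    rw [← Set.ncard_coe_finset]
    refine Set.ncard_le_ncard ?_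
    rintro _ ⟨σ, rfl⟩
    exact hS σ σ.2
  have hs : Nat.card (MulAction.stabilizer H a) ≤ n := by
    refine le_trans (Nat.card_le_card_of_injective
      (fun σ : MulAction.stabilizer H a => (⟨σ.1.1, ⟨σ.1.2, σ.2⟩⟩ : ↥(H ⊓ MulAction.stabilizer (Equiv.Perm α) a))) ?_) hn
    intro x y e
    exact Subtype.ext (Subtype.ext (congrArg (fun u : ↥(H ⊓ MulAction.stabilizer (Equiv.Perm α) a) => u.1) e))
  rw [← h1]
  exact Nat.mul_le_mul ho hs

theorem farPt_inj {x y : V} (h : farPt x = farPt y) : x = y := by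
  have := congrArg Fin.val h
  simp only [farPt] at this
  exact Fin.ext (by omega)

theorem coord_lt (k : Fin 4) (x : V) : coord k x < 3 := Nat.mod_lt _ (by norm_num)

theorem fn_eq_imp {a b : V} (h : ∀ i, fn i a = fn i b) : a = b := by
  have h0 : addV a (negV b) = 0 := fn_faithful _ fun i => by
    have hb := fn_add i b (negV b)
    rw [(addV_zero b).2.2.1, fn_zero] at hb
    rw [fn_add, h i, ← hb]
  exact eq_of_sub a b h0

/-- The linear map induced by an automorphism fixing the two base points. -/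
theorem exists_lin {σ : Equiv.Perm (Fin 112)} (hσ : σ ∈ autM) (h0 : σ 0 = 0) (hb : σ (farPt 0) = farPt 0) :
    ∃ τ : V → V, (∀ x, σ (farPt x) = farPt (τ x)) ∧ (∀ x, τ x = lin (fun k => τ (sbv k)) x) ∧
      ∀ x, Sing x → Sing (τ x) := by
  have hfar : ∀ x, ∃ y, σ (farPt x) = farPt y := fun x => by
    obtain ⟨y, hy⟩ := nonadj_zero (σ (farPt x)) (fun e => far_ne_zero x (σ.injective (e.trans h0.symm)))
      (by conv_lhs => rw [← h0]
          rw [hσ, adj_zero_far])
    exact ⟨y, hy.symm⟩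
  choose τ hτ using hfar
  have hnear : ∀ i c, ∃ j d, σ (nearPt i c) = nearPt j d := fun i c => by
    obtain ⟨j, d, hjd⟩ := adj_zero_cases (σ (nearPt i c)) (by
      conv_lhs => rw [← h0]
      rw [hσ, adj_zero])
    exact ⟨j, d, hjd.symm⟩
  choose π g hg using hnear
  have hπ : ∀ i c, π i c = π i 0 := by
    intro i c
    by_cases hc : c = 0
    · rw [hc]
    · have h := hσ (nearPt i c) (nearPt i 0)
      rw [(adj_near i i c 0).2 ⟨rfl, hc⟩, hg, hg] at h
      exact ((adj_near _ _ _ _).1 h).1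
  have hrel : ∀ i c x, fn i x = c ↔ fn (π i 0) (τ x) = g i c := by
    intro i c x
    have h := hσ (nearPt i c) (farPt x)
    rw [hg, hτ, hπ] at h
    rw [← adj_near_far, ← adj_near_far, h]
  have hginj : ∀ i c d, g i c = g i d → c = d := by
    intro i c d e
    have : σ (nearPt i c) = σ (nearPt i d) := by rw [hg, hg, hπ i c, hπ i d, e]
    exact (nearPt_inj _ _ _ _ (σ.injective this)).2
  have hτ0 : τ 0 = 0 := farPt_inj ((hτ 0).symm.trans hb)
  have hg0 : ∀ i, g i 0 = 0 := fun i => by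
    have h := (hrel i 0 0).1 (fn_zero i)
    rwa [hτ0, fn_zero, eq_comm] at h
  have hpinj : Function.Injective fun i => π i 0 := by
    intro i j e
    have e' : π i 0 = π j 0 := e
    have h1 : σ (nearPt i 0) = σ (nearPt j 0) := by rw [hg, hg, e', hg0, hg0]
    exact (nearPt_inj _ _ _ _ (σ.injective h1)).1
  have hadd : ∀ x y, τ (addV x y) = addV (τ x) (τ y) := fun x y => fn_eq_imp fun j => by
    obtain ⟨i, rfl⟩ := (Finite.injective_iff_surjective.1 hpinj) j
    show fn (π i 0) _ = fn (π i 0) _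
    rw [fn_add, (hrel i _ x).1 rfl, (hrel i _ y).1 rfl, (hrel i _ (addV x y)).1 rfl, fn_add,
      f3_linear (g i) (hginj i) (hg0 i)]
  have hsm : ∀ n, n < 3 → ∀ x, τ (smulV n x) = smulV n (τ x) := by
    intro n hn x
    interval_cases n
    · exact hτ0
    · rfl
    · rw [(smul_eq x).1, hadd, ← (smul_eq (τ x)).1]
  refine ⟨τ, hτ, fun x => ?_, fun x hx => ?_⟩
  · conv_lhs => rw [← lin_sbv x]
    simp only [lin]
    rw [hadd, hadd, hadd, hsm _ (coord_lt _ _), hsm _ (coord_lt _ _), hsm _ (coord_lt _ _), hsm _ (coord_lt _ _)]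
  · have h := hσ (farPt x) (farPt 0)
    have hn := sub_zero'
    rw [hτ, hb, (adj_far x 0).2 (by rw [hn]; exact hx)] at h
    simpa [hn] using (adj_far _ _).1 h

/-- The stabiliser of the two base points. -/
def stab2 : Subgroup (Equiv.Perm (Fin 112)) where
  carrier := {σ | σ ∈ autM ∧ σ 0 = 0 ∧ σ (farPt 0) = farPt 0}
  one_mem' := ⟨one_mem _, rfl, rfl⟩
  mul_mem' := fun {σ τ} hσ hτ => ⟨mul_mem hσ.1 hτ.1,
    by rw [Equiv.Perm.mul_apply, hτ.2.1, hσ.2.1], by rw [Equiv.Perm.mul_apply, hτ.2.2, hσ.2.2]⟩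
  inv_mem' := fun {σ} hσ => ⟨inv_mem hσ.1, Equiv.Perm.inv_eq_iff_eq.2 hσ.2.1.symm,
    Equiv.Perm.inv_eq_iff_eq.2 hσ.2.2.symm⟩

/-- The stabiliser of three points. -/
def stab3 : Subgroup (Equiv.Perm (Fin 112)) :=
  stab2 ⊓ MulAction.stabilizer (Equiv.Perm (Fin 112)) (farPt (sbv 0))

theorem stab3_mem {σ : Equiv.Perm (Fin 112)} (h : σ ∈ stab3) :
    σ ∈ autM ∧ σ 0 = 0 ∧ σ (farPt 0) = farPt 0 ∧ σ (farPt (sbv 0)) = farPt (sbv 0) :=
  ⟨h.1.1, h.1.2.1, h.1.2.2, h.2⟩

theorem stab3_cand {σ : Equiv.Perm (Fin 112)} (h : σ ∈ stab3) :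
    ∃ t : V × V × V, t ∈ linCands.toFinset ∧ σ (farPt (sbv 1)) = farPt t.1 ∧
      σ (farPt (sbv 2)) = farPt t.2.1 ∧ σ (farPt (sbv 3)) = farPt t.2.2 := by
  obtain ⟨hσ, h0, hb, h1⟩ := stab3_mem h
  obtain ⟨τ, hτ, hl, hs⟩ := exists_lin hσ h0 hb
  have e1 : τ (sbv 0) = sbv 0 := farPt_inj ((hτ _).symm.trans h1)
  refine ⟨(τ (sbv 1), τ (sbv 2), τ (sbv 3)), List.mem_toFinset.2 ?_, hτ _, hτ _, hτ _⟩
  have hS : ∀ x : V, x ∈ (List.finRange 81).filter (fun x => decide (kind x = 1)) ↔ kind x = 1 := fun x => by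
    simp [List.mem_filter]
  refine List.mem_flatMap.2 ⟨τ (sbv 1), (hS _).2 (hs _ (sbv_sing 1)), List.mem_flatMap.2
    ⟨τ (sbv 2), (hS _).2 (hs _ (sbv_sing 2)), List.mem_map.2 ⟨τ (sbv 3), List.mem_filter.2
    ⟨(hS _).2 (hs _ (sbv_sing 3)), List.all_eq_true.2 fun i _ => decide_eq_true ?_⟩, rfl⟩⟩⟩
  have hv : (![sbv 0, τ (sbv 1), τ (sbv 2), τ (sbv 3)] : Fin 4 → V) = fun k => τ (sbv k) := by
    funext k; fin_cases k <;> simp [e1]
  rw [hv, ← hl]
  exact hs _ (rep_facts i).1

theorem stab3_eq_one {ρ : Equiv.Perm (Fin 112)} (h : ρ ∈ stab3)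
    (h' : ∀ k, ρ (farPt (sbv k)) = farPt (sbv k)) : ρ = 1 := by
  obtain ⟨hρA, h0, hb, -⟩ := stab3_mem h
  obtain ⟨τ, hτ, hl, -⟩ := exists_lin hρA h0 hb
  have hk : (fun k => τ (sbv k)) = sbv := funext fun k => farPt_inj ((hτ _).symm.trans (h' k))
  have hfix : ∀ x, ρ (farPt x) = farPt x := fun x => by rw [hτ x, hl x, hk, lin_sbv]
  refine Equiv.ext fun a => ?_
  rcases pt_cases a with rfl | ⟨i, c, rfl⟩ | ⟨x, rfl⟩
  · exact h0
  · obtain ⟨j, d, hjd⟩ := adj_zero_cases (ρ (nearPt i c)) (by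
      conv_lhs => rw [← h0]
      rw [hρA, adj_zero])
    have hsame : ∀ x, fn i x = c ↔ fn j x = d := fun x => by
      rw [← adj_near_far, ← adj_near_far, hjd, ← hρA (nearPt i c) (farPt x), hfix]
    obtain ⟨rfl, rfl⟩ := near_sep i j c d hsame
    exact hjd.symm
  · exact hfix x

theorem card_stab3 : Nat.card stab3 ≤ 144 := by
  classical
  choose f hf h1 h2 h3 using fun σ : stab3 => stab3_cand σ.2
  refine le_trans (Nat.card_le_card_of_injective (fun σ => (⟨f σ, hf σ⟩ : linCands.toFinset)) ?_) ?_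
  · intro σ σ' e
    have e' : f σ = f σ' := congrArg Subtype.val e
    have key : ∀ a, (σ : Equiv.Perm (Fin 112)) a = (σ' : Equiv.Perm (Fin 112)) a →
        ((σ'⁻¹ * σ : stab3) : Equiv.Perm (Fin 112)) a = a := fun a h => by
      rw [Subgroup.coe_mul, Subgroup.coe_inv, Equiv.Perm.mul_apply, h, ← Equiv.Perm.mul_apply, inv_mul_cancel,
        Equiv.Perm.one_apply]
    have hone : ((σ'⁻¹ * σ : stab3) : Equiv.Perm (Fin 112)) = 1 := by
      refine stab3_eq_one (σ'⁻¹ * σ).2 fun k => key _ ?_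
      fin_cases k
      · exact (stab3_mem σ.2).2.2.2.trans (stab3_mem σ'.2).2.2.2.symm
      · exact (h1 σ).trans (e' ▸ (h1 σ').symm)
      · exact (h2 σ).trans (e' ▸ (h2 σ').symm)
      · exact (h3 σ).trans (e' ▸ (h3 σ').symm)
    exact (eq_of_inv_mul_eq_one (Subtype.ext hone : σ'⁻¹ * σ = 1)).symm
  · rw [Nat.card_eq_fintype_card, Fintype.card_coe]
    exact (List.toFinset_card_le _).trans linCands_length

theorem card_stab2 : Nat.card stab2 ≤ 20 * 144 := by
  classical
  refine (card_le_mul stab2 (farPt (sbv 0)) ((Finset.univ.filter fun x : V => kind x = 1).image farPt) ?_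
    card_stab3).trans (Nat.mul_le_mul_right _ (Finset.card_image_le.trans (le_of_eq sing_card)))
  rintro σ ⟨hσ, h0, hb⟩
  obtain ⟨τ, hτ, -, hs⟩ := exists_lin hσ h0 hb
  exact Finset.mem_image.2 ⟨τ (sbv 0), Finset.mem_filter.2 ⟨Finset.mem_univ _, hs _ (sbv_sing 0)⟩, (hτ _).symm⟩

/-- The bound. -/
theorem card_autM : Nat.card autM ≤ 112 * (81 * (20 * 144)) := by
  classical
  refine (card_le_mul autM (0 : Fin 112) Finset.univ (fun _ _ => Finset.mem_univ _) (n := 81 * (20 * 144)) ?_).trans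
    (le_of_eq (by rw [Finset.card_univ, Fintype.card_fin]))
  refine (card_le_mul _ (farPt 0) (Finset.univ.image farPt) ?_ (n := 20 * 144) ?_).trans
    (Nat.mul_le_mul_right _ (Finset.card_image_le.trans (le_of_eq (by rw [Finset.card_univ, Fintype.card_fin]))))
  · rintro σ ⟨hσ, h0 : σ (0 : Fin 112) = 0⟩
    obtain ⟨y, hy⟩ := nonadj_zero (σ (farPt 0)) (fun e => far_ne_zero 0 (σ.injective (e.trans h0.symm))) (by
      conv_lhs => rw [← h0]
      rw [hσ, adj_zero_far])
    exact Finset.mem_image.2 ⟨y, Finset.mem_univ _, hy⟩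
  · refine le_trans (le_of_eq (congrArg (fun H : Subgroup _ => Nat.card H) ?_)) card_stab2
    ext σ
    exact and_assoc

/-- The coded group of the lines in the labels of the model. -/
noncomputable def uM : Subgroup (Equiv.Perm (Fin 112)) :=
  (genGroup 7 112 u43Gens).map
    (MulAut.conj (Equiv.mk ofLine toLine (fun a => (loc_inv a).2) (fun a => (loc_inv a).1) :
      Equiv.Perm (Fin 112))).toMonoidHom

theorem gens_adj (k : Fin 2) (a b : Fin 112) :
    adjC (toPerm 7 112 (u43Gens.getD k (0, 0)) a) (toPerm 7 112 (u43Gens.getD k (0, 0)) b) = adjC a b := by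
  have hv := (gens_valid k).1
  have e : ∀ i, toPerm 7 112 (u43Gens.getD k (0, 0)) i = img k i := fun i => by
    apply Fin.ext
    rw [← ((rep_toPerm hv) i).1]
    exact ((gens_valid k).2 i).symm
  rw [e, e]
  exact img_adj k a b

theorem card_uM : Nat.card uM = 3265920 := by
  rw [uM, Subgroup.card_map_of_injective (MulEquiv.injective _), cert_card u43_cert, u43_order]

theorem uM_le : uM ≤ autM := by
  rw [uM, Subgroup.map_le_iff_le_comap, genGroup, Subgroup.closure_le]
  intro π hπ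
  obtain ⟨e, he, rfl⟩ := List.mem_map.1 hπ
  rw [show u43Gens = [u43Gens.getD 0 (0, 0), u43Gens.getD 1 (0, 0)] from rfl] at he
  simp only [List.mem_cons, List.not_mem_nil, or_false] at he
  obtain ⟨k, rfl⟩ : ∃ k : Fin 2, e = u43Gens.getD k (0, 0) := by
    rcases he with rfl | rfl
    exacts [⟨0, rfl⟩, ⟨1, rfl⟩]
  intro a b
  show adjM (ofLine (toPerm 7 112 _ (toLine a))) (ofLine (toPerm 7 112 _ (toLine b))) = adjM a b
  rw [← loc_adj a b, ← loc_adj, (loc_inv _).2, (loc_inv _).2, gens_adj]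

/-- A simple group of order 3265920 acting faithfully on the model graph is `PSU(4,3)`. -/
theorem iso_of_action {G : Type*} [Group G] [Finite G] [IsSimpleGroup G] (hG : Nat.card G = 3265920)
    (ρ : G →* Equiv.Perm (Fin 112)) (hρ : Function.Injective ρ) (hA : ρ.range ≤ autM)
    (K : Type) [Field K] [Fintype K] (hK : Fintype.card K = 9) : Nonempty (G ≃* Cfsg.PSU 4 K 3) := by
  classical
  set H := uM.comap ρ with hH
  have hidx : H.index ≤ 8 := by
    rw [hH, Subgroup.index_comap]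
    have h1 : uM.relIndex ρ.range ≤ uM.relIndex autM := by
      refine Subgroup.relIndex_le_of_le_right hA ?_
      exact Subgroup.index_ne_zero_of_finite
    have h3 : Nat.card (uM.subgroupOf autM) * uM.relIndex autM = Nat.card autM :=
      (uM.subgroupOf autM).card_mul_index
    rw [Nat.card_congr (Subgroup.subgroupOfEquivOfLe uM_le).toEquiv, card_uM] at h3
    have h4 := card_autM
    nlinarith
  have htop : H = ⊤ := by
    by_contra hne
    have h1 : H.index ≠ 1 := fun h => hne (Subgroup.index_eq_one.1 h)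
    set φ := MulAction.toPermHom G (G ⧸ H)
    have hker : φ.ker = ⊥ := by
      rcases (inferInstance : φ.ker.Normal).eq_bot_or_eq_top with h | h
      · exact h
      · exfalso
        apply hne
        rw [eq_top_iff]
        intro g _
        have hg : g • ((1 : G) : G ⧸ H) = ((1 : G) : G ⧸ H) := by
          have : φ g = 1 := (h ▸ Subgroup.mem_top g : g ∈ φ.ker)
          exact Equiv.ext_iff.1 this ((1 : G) : G ⧸ H)
        rwa [MulAction.Quotient.smul_mk, smul_eq_mul, mul_one, QuotientGroup.eq, mul_one, inv_mem_iff] at hg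
    have hle := Nat.card_le_card_of_injective φ ((MonoidHom.ker_eq_bot_iff φ).1 hker)
    rw [hG, Nat.card_perm] at hle
    have h8 : (Nat.card (G ⧸ H)).factorial ≤ Nat.factorial 8 := Nat.factorial_le hidx
    have : Nat.factorial 8 = 40320 := rfl
    omega
  have hle : ρ.range ≤ uM := by
    rintro _ ⟨g, rfl⟩
    exact (show g ∈ H from htop ▸ Subgroup.mem_top g)
  have heq : ρ.range = uM := Subgroup.eq_of_le_of_card_ge hle (by
    rw [card_uM, ← Nat.card_congr (MonoidHom.ofInjective hρ).toEquiv, hG])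
  obtain ⟨φ, hr, hk, -⟩ := exists_u43_hom (F := K) hK
  exact ⟨(MonoidHom.ofInjective hρ).trans ((MulEquiv.subgroupCongr heq).trans
    ((Subgroup.equivMapOfInjective _ _ (MulEquiv.injective _)).symm.trans ((MulEquiv.subgroupCongr hr.symm).trans
      ((QuotientGroup.quotientKerEquivRange φ).symm.trans (QuotientGroup.quotientMulEquivOfEq hk)))))⟩

end Cfsg.Agent.U43Rec
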