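import Cfsg.Agent.Lib.U43Rec.LocalChecks
import Mathlib.GroupTheory.Index
import Mathlib.GroupTheory.OrderOfElement

/-!
The local data from which `U4(3)` is recognised: an elementary abelian subgroup `E` of order 81 with coordinates,
its normaliser acting as the coded group, and the orders of the centralisers of its elements.
-/

set_option autoImplicit false
set_option linter.unusedSectionVars false

namespace Cfsg.Agent.U43Rec

open Subgroup

variable (G : Type*) [Group G]

/-- The local data. -/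
structure Loc where
  e : V → G
  e_add : ∀ x y, e (addV x y) = e x * e y
  e_inj : Function.Injective e
  lift : ∀ a : Fin 360, ∃ n : G, ∀ x, n * e x * n⁻¹ = e (app a x)
  card_norm : Nat.card (normalizer (Set.range e)) = 29160
  card_G : Nat.card G = 3265920
  cent_nsing : ∀ x, Nsing x → Nat.card (centralizer ({e x} : Set G)) = 972
  cent_sing : ∀ x, Sing x → Nat.card (centralizer ({e x} : Set G)) = 5832
  cent_self : ∀ g : G, (∀ x, g * e x = e x * g) → ∃ x, g = e x
  one_class : ∀ s t : G, s * s = 1 → s ≠ 1 → t * t = 1 → t ≠ 1 → IsConj s t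

theorem conj_mul' {G : Type*} [Group G] (g a b : G) : g * (a * b) * g⁻¹ = g * a * g⁻¹ * (g * b * g⁻¹) := by group

theorem app_inj_idx {a b : Fin 360} (h : ∀ x, app a x = app b x) : a = b :=
  List.inj_on_of_nodup_map aKey_nodup (List.mem_finRange _) (List.mem_finRange _) (by simp only [aKey, h])

theorem kind_cases : ∀ x : V, x = 0 ∨ Sing x ∨ Nsing x := by decide +kernel

theorem nsing_ne : ∀ x : V, Nsing x → x ≠ 0 ∧ kind x ≠ 1 ∧ kind x ≠ 0 := by decide +kernel

theorem sing_ne : ∀ x : V, Sing x → x ≠ 0 ∧ kind x ≠ 0 := by decide +kernel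

namespace Loc

variable {G} [Finite G] (L : Loc G)
include L

theorem e_zero : L.e 0 = 1 := by
  have h := L.e_add 0 0
  rw [(addV_zero 0).1] at h
  exact left_eq_mul.1 h

theorem e_neg (x : V) : L.e (negV x) = (L.e x)⁻¹ :=
  eq_inv_of_mul_eq_one_right (by rw [← L.e_add, (addV_zero x).2.2.1, L.e_zero])

theorem e_ne_one {x : V} (hx : x ≠ 0) : L.e x ≠ 1 := fun h => hx (L.e_inj (h.trans L.e_zero.symm))

theorem e_comm (x y : V) : L.e x * L.e y = L.e y * L.e x := by
  have hc : ∀ x y : V, addV x y = addV y x := by decide +kernel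
  rw [← L.e_add, ← L.e_add, hc]

/-- The subgroup `E`. -/
def E : Subgroup G where
  carrier := Set.range L.e
  one_mem' := ⟨0, L.e_zero⟩
  mul_mem' := by
    rintro _ _ ⟨x, rfl⟩ ⟨y, rfl⟩
    exact ⟨_, L.e_add x y⟩
  inv_mem' := by
    rintro _ ⟨x, rfl⟩
    exact ⟨_, L.e_neg x⟩

theorem mem_E {g : G} : g ∈ L.E ↔ ∃ x, L.e x = g := Iff.rfl

theorem card_E : Nat.card L.E = 81 := by
  rw [show Nat.card L.E = Nat.card (Set.range L.e) from rfl, Nat.card_range_of_injective L.e_inj, Nat.card_eq_fintype_card,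
    Fintype.card_fin]

/-- The normaliser of `E`. -/
abbrev N : Subgroup G := normalizer (Set.range L.e)

/-- A lift of a coded map. -/
noncomputable def nl (a : Fin 360) : G := (L.lift a).choose

theorem nl_spec (a : Fin 360) (x : V) : L.nl a * L.e x * (L.nl a)⁻¹ = L.e (app a x) := (L.lift a).choose_spec x

theorem app_add (a : Fin 360) (x y : V) : app a (addV x y) = addV (app a x) (app a y) :=
  L.e_inj (by rw [← L.nl_spec, L.e_add, conj_mul', L.nl_spec, L.nl_spec, L.e_add])

theorem app_neg (a : Fin 360) (x : V) : app a (negV x) = negV (app a x) :=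
  L.e_inj (by rw [← L.nl_spec, L.e_neg, ← conj_inv, L.nl_spec, L.e_neg])

theorem app_injective (a : Fin 360) : Function.Injective (app a) := fun x y h => L.e_inj (by
  have := congrArg L.e h
  rw [← L.nl_spec, ← L.nl_spec] at this
  exact mul_left_cancel (mul_right_cancel this))

theorem mem_N_of {g : G} {f : V → V} (h : ∀ x, g * L.e x * g⁻¹ = L.e (f x)) : g ∈ L.N := by
  classical
  rw [Subgroup.mem_set_normalizer_iff]
  intro y
  refine ⟨fun ⟨x, hx⟩ => hx ▸ ⟨f x, (h x).symm⟩, fun ⟨x, hx⟩ => ?_⟩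
  have hf : Function.Injective f := fun u v e => L.e_inj (by
    have := congrArg L.e e
    rw [← h, ← h] at this
    exact mul_left_cancel (mul_right_cancel this))
  obtain ⟨u, rfl⟩ := (Finite.injective_iff_surjective.1 hf) x
  exact ⟨u, mul_left_cancel (mul_right_cancel ((h u).trans hx))⟩

theorem nl_mem (a : Fin 360) : L.nl a ∈ L.N := L.mem_N_of (L.nl_spec a)

theorem e_mem_N (x : V) : L.e x ∈ L.N :=
  L.mem_N_of (f := fun y => y) fun y => by rw [L.e_comm, mul_inv_cancel_right]

theorem nl_e_conj (a : Fin 360) (y x : V) :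
    L.nl a * L.e y * L.e x * (L.nl a * L.e y)⁻¹ = L.e (app a x) := by
  rw [← L.nl_spec a x]
  calc _ = L.nl a * (L.e y * L.e x * (L.e y)⁻¹) * (L.nl a)⁻¹ := by group
    _ = _ := by rw [L.e_comm y x, mul_inv_cancel_right]

/-- Every element of the normaliser is a lift times an element of `E`. -/
theorem exists_eq {n : G} (hn : n ∈ L.N) : ∃ a y, n = L.nl a * L.e y := by
  let f : Fin 360 × V → L.N := fun p => ⟨L.nl p.1 * L.e p.2, mul_mem (L.nl_mem _) (L.e_mem_N _)⟩
  have hf : Function.Injective f := by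
    rintro ⟨a, x⟩ ⟨b, y⟩ h
    have h' : L.nl a * L.e x = L.nl b * L.e y := congrArg Subtype.val h
    have hab : a = b := app_inj_idx fun z => L.e_inj (by rw [← L.nl_e_conj a x, ← L.nl_e_conj b y, h'])
    subst hab
    exact Prod.ext rfl (L.e_inj (mul_left_cancel h'))
  have hb : Function.Bijective f := (Nat.bijective_iff_injective_and_card f).2 ⟨hf, by
    rw [L.card_norm, Nat.card_prod, Nat.card_eq_fintype_card, Nat.card_eq_fintype_card, Fintype.card_fin,
      Fintype.card_fin]⟩
  obtain ⟨⟨a, y⟩, h⟩ := hb.2 ⟨n, hn⟩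
  exact ⟨a, y, (congrArg Subtype.val h).symm⟩

theorem act_of_mem {n : G} (hn : n ∈ L.N) : ∃ a, ∀ x, n * L.e x * n⁻¹ = L.e (app a x) := by
  obtain ⟨a, y, rfl⟩ := L.exists_eq hn
  exact ⟨a, L.nl_e_conj a y⟩

theorem mem_centralizer_e {g : G} {x : V} : g ∈ centralizer ({L.e x} : Set G) ↔ g * L.e x = L.e x * g := by
  rw [Subgroup.mem_centralizer_iff]
  simp only [Set.mem_singleton_iff, forall_eq]
  exact eq_comm

/-- The centraliser of an element of `E` in the normaliser. -/
theorem card_cent_N (x : V) :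
    Nat.card ↥(L.N ⊓ centralizer ({L.e x} : Set G)) =
      81 * if kind x = 0 then 360 else if kind x = 1 then 18 else 12 := by
  classical
  have hmem : ∀ a y, (L.nl a * L.e y ∈ centralizer ({L.e x} : Set G) ↔ app a x = x) := fun a y => by
    rw [L.mem_centralizer_e]
    constructor
    · intro h
      exact L.e_inj (by rw [← L.nl_e_conj a y, h, mul_inv_cancel_right])
    · intro h
      have := L.nl_e_conj a y x
      rw [h] at this
      exact mul_inv_eq_iff_eq_mul.1 this
  let f : {a : Fin 360 // app a x = x} × V → ↥(L.N ⊓ centralizer ({L.e x} : Set G)) :=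
    fun p => ⟨L.nl p.1 * L.e p.2, mul_mem (L.nl_mem _) (L.e_mem_N _), (hmem _ _).2 p.1.2⟩
  have hb : Function.Bijective f := by
    refine ⟨?_, ?_⟩
    · rintro ⟨⟨a, ha⟩, u⟩ ⟨⟨b, hb⟩, v⟩ h
      have h' : L.nl a * L.e u = L.nl b * L.e v := congrArg Subtype.val h
      have hab : a = b := app_inj_idx fun z => L.e_inj (by rw [← L.nl_e_conj a u, ← L.nl_e_conj b v, h'])
      subst hab
      exact Prod.ext rfl (L.e_inj (mul_left_cancel h'))
    · rintro ⟨g, hg, hgc⟩
      obtain ⟨a, y, rfl⟩ := L.exists_eq hg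
      exact ⟨(⟨a, (hmem a y).1 hgc⟩, y), rfl⟩
  rw [← Nat.card_eq_of_bijective f hb, Nat.card_prod, Nat.card_eq_fintype_card, Nat.card_eq_fintype_card,
    Fintype.card_fin, mul_comm]
  congr 1
  rw [Fintype.card_subtype, ← stab_count x, List.countP_eq_length_filter]
  rw [← List.toFinset_card_of_nodup ((List.nodup_finRange 360).filter _)]
  congr 1
  ext a
  simp

theorem cent_le_N {x : V} (hx : Nsing x) : centralizer ({L.e x} : Set G) ≤ L.N := by
  have h := L.card_cent_N x
  rw [if_neg (nsing_ne x hx).2.2, if_neg (nsing_ne x hx).2.1] at h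
  have := Subgroup.eq_of_le_of_card_ge (inf_le_right : L.N ⊓ centralizer ({L.e x} : Set G) ≤ _)
    (by rw [h, L.cent_nsing x hx])
  exact this ▸ inf_le_left

theorem card_cent_conj (g : G) (u : G) :
    Nat.card (centralizer ({g * u * g⁻¹} : Set G)) = Nat.card (centralizer ({u} : Set G)) := by
  refine (Nat.card_congr ((MulAut.conj g).toEquiv.subtypeEquiv fun h => ?_)).symm
  simp only [SetLike.mem_coe, Subgroup.mem_centralizer_iff, Set.mem_singleton_iff, forall_eq,
    MulEquiv.toEquiv_eq_coe, EquivLike.coe_coe, MulAut.conj_apply]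
  constructor
  · intro e
    rw [← conj_mul', e, conj_mul']
  · intro e
    rw [← conj_mul', ← conj_mul'] at e
    exact mul_left_cancel (mul_right_cancel e)

theorem kind_conj {g : G} {x y : V} (h : g * L.e y * g⁻¹ = L.e x) (hy : y ≠ 0) :
    (Nsing x ↔ Nsing y) ∧ (Sing x ↔ Sing y) ∧ x ≠ 0 := by
  have hc := L.card_cent_conj g (L.e y)
  rw [h] at hc
  have hx : x ≠ 0 := fun e => by
    rw [e, L.e_zero, conj_eq_one_iff] at h
    exact L.e_ne_one hy h
  rcases (kind_cases x).resolve_left hx with h1 | h1 <;> rcases (kind_cases y).resolve_left hy with h2 | h2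
  · exact ⟨iff_of_false (fun e => (nsing_ne x e).2.1 h1) (fun e => (nsing_ne y e).2.1 h2), iff_of_true h1 h2, hx⟩
  · rw [L.cent_sing x h1, L.cent_nsing y h2] at hc; omega
  · rw [L.cent_nsing x h1, L.cent_sing y h2] at hc; omega
  · exact ⟨iff_of_true h1 h2, iff_of_false (nsing_ne x h1).2.1 (nsing_ne y h2).2.1, hx⟩

/-- A non-singular vector lies in no other conjugate of `E`: the two base classes. -/
theorem conj_eq_base {g : G} {k : Fin 2} {y : V} (h : g * L.e y * g⁻¹ = L.e (if k = 0 then 1 else 3)) : g ∈ L.N := by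
  set v : V := if k = 0 then 1 else 3 with hv
  have hvn : Nsing v := by
    rw [hv]; split
    · exact Or.inl kind_reps.1
    · exact Or.inr kind_reps.2
  have hin : ∀ z, g * L.e z * g⁻¹ ∈ centralizer ({L.e v} : Set G) := fun z => by
    rw [L.mem_centralizer_e, ← h, ← conj_mul', ← conj_mul', L.e_comm]
  have key : ∀ z, ∃ x, g * L.e z * g⁻¹ = L.e x := by
    intro z
    set u := g * L.e z * g⁻¹ with hu
    obtain ⟨a, w, hw⟩ := L.exists_eq (L.cent_le_N hvn (hin z))
    have hact : ∀ x, u * L.e x * u⁻¹ = L.e (app a x) := fun x => by rw [show u = L.nl a * L.e w from hw]; exact L.nl_e_conj a w x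
    by_cases ha : a = 0
    · refine L.cent_self u fun x => ?_
      have := hact x
      rw [ha, app_id] at this
      exact mul_inv_eq_iff_eq_mul.1 this
    exfalso
    have hav : app a v = v := L.e_inj (by
      rw [← hact, (L.mem_centralizer_e.1 (hin z)), mul_inv_cancel_right])
    have h3 : u * u * u = 1 := by
      have hz : L.e z * L.e z * L.e z = 1 := by
        rw [← L.e_add, ← L.e_add, (addV_zero z).2.2.2.1,
          show ∀ x : V, addV (negV x) x = 0 by decide +kernel, L.e_zero]
      rw [hu, ← conj_mul', ← conj_mul', hz, mul_one, mul_inv_cancel]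
    have ha3 : ∀ x, app a (app a (app a x)) = x := fun x => L.e_inj (by
      rw [← hact, ← hact, ← hact]
      calc _ = (u * u * u) * L.e x * (u * u * u)⁻¹ := by group
        _ = _ := by rw [h3, one_mul, inv_one, mul_one])
    obtain ⟨b, hb, hb2, x, hne⟩ := stab_noncomm k a hav ha ha3
    apply hne
    -- the conjugate of `u` by the lift of `b` commutes with `u`
    set n := L.nl b with hn
    have hnC : n ∈ centralizer ({L.e v} : Set G) := L.mem_centralizer_e.2 (by
      have := L.nl_spec b v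
      rw [hb] at this
      exact mul_inv_eq_iff_eq_mul.1 this)
    have hnC' : g⁻¹ * n * g * L.e y = L.e y * (g⁻¹ * n * g) := by
      have hh := L.mem_centralizer_e.1 hnC
      rw [← h] at hh
      calc g⁻¹ * n * g * L.e y = g⁻¹ * (n * (g * L.e y * g⁻¹)) * g := by group
        _ = _ := by rw [hh]; group
    have hy : Nsing y := (L.kind_conj h (fun e => by
      rw [e, L.e_zero, mul_one, mul_inv_cancel] at h
      exact L.e_ne_one (nsing_ne v hvn).1 h.symm)).1.1 hvn
    obtain ⟨c, hc⟩ := L.act_of_mem (L.cent_le_N hy (L.mem_centralizer_e.2 hnC'))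
    have hcom : u * (n * u * n⁻¹) = n * u * n⁻¹ * u := by
      have e1 : n * u * n⁻¹ = g * L.e (app c z) * g⁻¹ := by rw [← hc, hu]; group
      rw [e1, hu, ← conj_mul', ← conj_mul', L.e_comm]
    have hni : ∀ x, n⁻¹ * L.e x * n = L.e (app b x) := fun x => by
      conv_lhs => rw [← hb2 x, ← L.nl_spec b (app b x)]
      rw [← hn]; group
    apply L.e_inj
    have lhs : ∀ x, (n * u * n⁻¹) * L.e x * (n * u * n⁻¹)⁻¹ = L.e (app b (app a (app b x))) := fun x => by
      calc _ = n * (u * (n⁻¹ * L.e x * n) * u⁻¹) * n⁻¹ := by group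
        _ = _ := by rw [hni, hact, hn, L.nl_spec]
    calc L.e (app a (app b (app a (app b x))))
        = u * ((n * u * n⁻¹) * L.e x * (n * u * n⁻¹)⁻¹) * u⁻¹ := by rw [lhs, hact]
      _ = (u * (n * u * n⁻¹)) * L.e x * (u * (n * u * n⁻¹))⁻¹ := by group
      _ = (n * u * n⁻¹) * (u * L.e x * u⁻¹) * (n * u * n⁻¹)⁻¹ := by rw [hcom]; group
      _ = _ := by rw [hact, lhs]
  choose f hf using key
  exact L.mem_N_of hf

/-- A non-singular vector lies in no other conjugate of `E`. -/
theorem conj_eq_nsing {g : G} {x y : V} (hx : Nsing x) (h : g * L.e y * g⁻¹ = L.e x) : g ∈ L.N := by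
  obtain ⟨k, a, ha⟩ : ∃ k : Fin 2, ∃ a, app a (if k = 0 then 1 else 3) = x := by
    rcases hx with hk | hk
    · exact ⟨0, oneWit x, by simpa using (kind_trans x).1 hk⟩
    · exact ⟨1, threeWit x, by simpa using (kind_trans x).2 hk⟩
  rw [← ha, ← L.nl_spec] at h
  have h' : ((L.nl a)⁻¹ * g) * L.e y * ((L.nl a)⁻¹ * g)⁻¹ = L.e (if k = 0 then 1 else 3) := by
    calc _ = (L.nl a)⁻¹ * (g * L.e y * g⁻¹) * L.nl a := by group
      _ = _ := by rw [h]; group
  have := mul_mem (L.nl_mem a) (L.conj_eq_base h')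
  rwa [mul_inv_cancel_left] at this

end Loc

end Cfsg.Agent.U43Rec
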