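import Cfsg.Agent.Lib.U43Rec.BridgeFacts
import Cfsg.Agent.Lib.U43Rec.Local
import Cfsg.Agent.Lib.U43T.BTwo

/-!
The local data for the recognition of `U4(3)` in a group with the given involution centraliser.
-/

set_option autoImplicit false
set_option linter.unusedSectionVars false
set_option linter.style.haveILetI false
set_option maxRecDepth 4000

namespace Cfsg.Agent.U43Rec.Bridge

open Subgroup Cfsg.Agent.U43T

variable {G : Type*} [Group G] [Finite G] {z : G}

theorem cent_conj_card (g x : G) :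
    Nat.card (centralizer ({g * x * g⁻¹} : Set G)) = Nat.card (centralizer ({x} : Set G)) := by
  refine (Nat.card_congr ((MulAut.conj g).toEquiv.subtypeEquiv fun h => ?_)).symm
  simp only [SetLike.mem_coe, Subgroup.mem_centralizer_iff, Set.mem_singleton_iff, forall_eq,
    MulEquiv.toEquiv_eq_coe, EquivLike.coe_coe, MulAut.conj_apply]
  constructor
  · intro e
    rw [conj_mul, e, conj_mul]
  · intro e
    rw [conj_mul, conj_mul] at e
    exact mul_left_cancel (mul_right_cancel e)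

theorem cent_inv_card (x : G) :
    Nat.card (centralizer ({x⁻¹} : Set G)) = Nat.card (centralizer ({x} : Set G)) := by
  apply congrArg (fun H : Subgroup G => Nat.card H)
  ext y
  rw [mem_centralizer_singleton_iff, mem_centralizer_singleton_iff]
  exact Commute.inv_right_iff

/-- The number of codes normalising the four codes of order three. -/
theorem norm_codes : ((List.range 1152).filter fun g => List.contains pList (cjH g 144) &&
    List.contains pList (cjH g 6)).length = 72 := by decide +kernel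

theorem code_vals : alphaH 153 = 150 ∧ mulH 150 153 ∈ [(144 : ℕ), 216, 6, 9] ∧ cjH 576 144 = 6 ∧ iH 144 = 216 ∧
    iH 6 = 9 ∧ cjH 576 153 = 222 := by decide +kernel

/-- The base data: a setting and a cycle of three-power order in each of the two frames. -/
structure Base (z : G) where
  S : Setting z
  C : Cycle S.F
  C' : Cycle S.F.twist
  a : ℕ
  ha : C.n ^ (3 ^ a) = 1
  a' : ℕ
  ha' : C'.n ^ (3 ^ a') = 1

theorem exists_base (S : Setting z) : Nonempty (Base z) := by
  obtain ⟨C⟩ := S.exists_cycle S.F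
  obtain ⟨C0, a, ha⟩ := C.exists_three
  obtain ⟨C1⟩ := S.exists_cycle S.F.twist
  obtain ⟨C2, a', ha'⟩ := C1.exists_three
  exact ⟨⟨S, C0, C2, a, ha, a', ha'⟩⟩

namespace Base

variable (B : Base z)

/-- The coordinates. -/
def e (x : V) : G := B.C.coord (vd x)

theorem e_mem (x : V) : B.e x ∈ B.S.F.esub := B.C.coord_mem B.S _

theorem e_inj : Function.Injective B.e := fun x y h => by
  have := B.C.coord_inj B.S h
  rw [← mk_vd x, ← mk_vd y, this]

theorem exists_e {g : G} (hg : g ∈ B.S.F.esub) : ∃ x, B.e x = g := by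
  obtain ⟨v, hv⟩ := B.C.exists_coord B.S hg
  exact ⟨mk4 v, by rw [e, vd_mk, hv]⟩

theorem range_e : Set.range B.e = (B.S.F.esub : Set G) := by
  ext g
  exact ⟨fun ⟨x, hx⟩ => hx ▸ B.e_mem x, fun hg => B.exists_e hg⟩

theorem coord_add (v w : Fin 3 × Fin 3 × Fin 3 × Fin 3) : B.C.coord (v + w) = B.C.coord v * B.C.coord w := by
  have cc : ∀ {a b : G}, a ∈ B.S.F.esub → b ∈ B.S.F.esub → Commute a b := fun ha hb => B.C.esub_comm B.S ha hb
  have hu := B.S.F.psub_le_esub (Cycle.u_mem (F := B.S.F))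
  have hx := B.S.F.psub_le_esub (Cycle.x_mem (F := B.S.F))
  have ht := B.C.xt_mem_esub B.S
  have hs := B.C.xs_mem_esub B.S
  have e3 : ∀ {y : G} (_ : y * y * y = 1) (p q : Fin 3), y ^ ((p + q : Fin 3) : ℕ) = y ^ (p : ℕ) * y ^ (q : ℕ) :=
    fun hy p q => by rw [← pow_add, Cycle.pow_mod_three hy ((p : ℕ) + q), Fin.val_add]
  simp only [Cycle.coord, Prod.fst_add, Prod.snd_add]
  rw [e3 B.S.F.u_code.1, e3 B.S.F.uty_153.1, e3 B.C.uty_xt.1, e3 B.C.uty_xs.1,
    (cc (pow_mem hu _) (pow_mem hx _) : Commute (B.S.F.f 150 ^ (w.1 : ℕ)) (B.S.F.f 153 ^ (v.2.1 : ℕ))).mul_mul_mul_comm,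
    (cc (pow_mem ht _) (pow_mem hs _) : Commute (B.C.xt ^ (w.2.2.1 : ℕ)) (B.C.xs ^ (v.2.2.2 : ℕ))).mul_mul_mul_comm,
    (cc (mul_mem (pow_mem hu _) (pow_mem hx _)) (mul_mem (pow_mem ht _) (pow_mem hs _)) :
      Commute (B.S.F.f 150 ^ (w.1 : ℕ) * B.S.F.f 153 ^ (w.2.1 : ℕ))
        (B.C.xt ^ (v.2.2.1 : ℕ) * B.C.xs ^ (v.2.2.2 : ℕ))).mul_mul_mul_comm]

theorem e_add (x y : V) : B.e (addV x y) = B.e x * B.e y := by rw [e, vd_add, B.coord_add, e, e]

theorem e_zero : B.e 0 = 1 := by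
  have h := B.e_add 0 0
  rw [(addV_zero 0).1] at h
  exact left_eq_mul.1 h

theorem e_neg (x : V) : B.e (negV x) = (B.e x)⁻¹ :=
  eq_inv_of_mul_eq_one_right (by rw [← B.e_add, (addV_zero x).2.2.1, B.e_zero])

theorem e_basis : B.e 1 = B.S.F.f 150 ∧ B.e 3 = B.S.F.f 153 ∧ B.e 9 = B.C.xt ∧ B.e 27 = B.C.xs := by
  refine ⟨?_, ?_, ?_, ?_⟩
  · rw [e, vd_basis.2.1]; simp [Cycle.coord]
  · rw [e, vd_basis.2.2.1]; simp [Cycle.coord]
  · rw [e, vd_basis.2.2.2.1]; simp [Cycle.coord]
  · rw [e, vd_basis.2.2.2.2]; simp [Cycle.coord]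

theorem conj_smul (n : G) {x w : V} (h : n * B.e x * n⁻¹ = B.e w) (k : ℕ) :
    n * B.e (smulV k x) * n⁻¹ = B.e (smulV k w) := by
  match k with
  | 0 => simp [smulV, B.e_zero]
  | 1 => simpa [smulV] using h
  | k + 2 => simp only [smulV, B.e_neg, ← conj_inv, h]

theorem conj_add (n : G) {x x' w w' : V} (h : n * B.e x * n⁻¹ = B.e w) (h' : n * B.e x' * n⁻¹ = B.e w') :
    n * B.e (addV x x') * n⁻¹ = B.e (addV w w') := by
  rw [B.e_add, B.e_add, ← conj_mul, h, h']

/-- Conjugation realises a map. -/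
def Lifts (f : V → V) : Prop := ∃ n : G, ∀ x, n * B.e x * n⁻¹ = B.e (f x)

theorem lifts_comp {f g : V → V} (hf : B.Lifts f) (hg : B.Lifts g) : B.Lifts fun x => f (g x) := by
  obtain ⟨n, hn⟩ := hf
  obtain ⟨m, hm⟩ := hg
  exact ⟨n * m, fun x => by rw [← hn (g x), ← hm]; group⟩

theorem conj_linW (n : G) (w : Fin 4 → V) (h0 : n * B.e 1 * n⁻¹ = B.e (w 0)) (h1 : n * B.e 3 * n⁻¹ = B.e (w 1))
    (h2 : n * B.e 9 * n⁻¹ = B.e (w 2)) (h3 : n * B.e 27 * n⁻¹ = B.e (w 3)) (x : V) :
    n * B.e x * n⁻¹ = B.e (linW w x) := by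
  conv_lhs => rw [← basis_spec x]
  exact B.conj_add n (B.conj_add n (B.conj_smul n h0 _) (B.conj_smul n h1 _))
    (B.conj_add n (B.conj_smul n h2 _) (B.conj_smul n h3 _))

theorem eighteen : B.e 18 = B.C.xt⁻¹ ∧ B.e 54 = B.C.xs⁻¹ ∧ B.e 6 = (B.S.F.f 153)⁻¹ := by
  refine ⟨?_, ?_, ?_⟩
  · rw [← B.e_basis.2.2.1, ← B.e_neg]; exact congrArg _ (by decide +kernel)
  · rw [← B.e_basis.2.2.2, ← B.e_neg]; exact congrArg _ (by decide +kernel)
  · rw [← B.e_basis.2.1, ← B.e_neg]; exact congrArg _ (by decide +kernel)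

theorem z_spec (x : V) : z * B.e x * z⁻¹ = B.e (zMap x) := by
  obtain ⟨b1, b3, b9, b27⟩ := B.e_basis
  refine B.conj_linW z _ ?_ ?_ ?_ ?_ x
  · show _ = B.e 1
    rw [b1, Cycle.u_fix (F := B.S.F) z (Or.inl rfl)]
  · show _ = B.e 3
    rw [b3, conj_eq_iff_commute.2 (B.S.F.comm 153 (by norm_num)).symm]
  · show _ = B.e 18
    rw [b9, B.eighteen.1, B.C.xt_rel.2.1]
  · show _ = B.e 54
    rw [b27, B.eighteen.2.1, B.C.xs_rel.1]

theorem lifts_z : B.Lifts zMap := ⟨z, B.z_spec⟩

theorem lifts_t : B.Lifts tMap := by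
  obtain ⟨b1, b3, b9, b27⟩ := B.e_basis
  refine ⟨B.S.F.f 576, B.conj_linW _ _ ?_ ?_ ?_ ?_⟩
  · show _ = B.e 1
    rw [b1, Cycle.u_fix (F := B.S.F) _ (Or.inr (Or.inl rfl))]
  · show _ = B.e 6
    rw [b3, B.eighteen.2.2, (Cycle.x153_rel (F := B.S.F)).1]
  · show _ = B.e 9
    rw [b9, conj_eq_iff_commute.2 B.C.xt_rel.2.2.symm]
  · show _ = B.e 54
    rw [b27, B.eighteen.2.1, B.C.xs_rel.2.1]

theorem lifts_n : B.Lifts nMap := by
  obtain ⟨b1, b3, b9, b27⟩ := B.e_basis
  refine ⟨B.C.n, B.conj_linW _ _ ?_ ?_ ?_ ?_⟩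
  · show _ = B.e 1
    rw [b1, conj_eq_iff_commute.2 B.C.nu]
  · show _ = B.e 9
    rw [b3, b9]; rfl
  · show _ = B.e 27
    rw [b9, b27]; rfl
  · show _ = B.e 3
    rw [b27, b3, B.C.conj_xs B.ha]

include B in
theorem twist_psub : B.S.F.twist.psub = B.S.F.psub := by
  refine eq_of_le_of_card_ge ?_ (by rw [B.S.F.card_psub, B.S.F.twist.card_psub])
  rintro _ ⟨a, ha, rfl⟩
  exact ⟨alphaH a, (show ∀ a ∈ pList, alphaH a ∈ pList by decide +kernel) a ha, rfl⟩

include B in
theorem twist_esub : B.S.F.twist.esub = B.S.F.esub := by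
  have htw := B.twist_psub
  have hcp : B.S.F.twist.cp = B.S.F.cp := by
    ext y
    constructor <;> intro hy
    · exact B.S.F.mem_cp.2 ⟨B.S.F.twist.cp_comm_psub hy (htw ▸ ⟨144, by decide, rfl⟩),
        B.S.F.twist.cp_comm_psub hy (htw ▸ ⟨6, by decide, rfl⟩)⟩
    · exact B.S.F.twist.mem_cp.2
        ⟨B.S.F.cp_comm_psub hy (htw ▸ ⟨144, by decide, rfl⟩ : B.S.F.twist.f 144 ∈ B.S.F.psub),
          B.S.F.cp_comm_psub hy (htw ▸ ⟨6, by decide, rfl⟩ : B.S.F.twist.f 6 ∈ B.S.F.psub)⟩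
  ext y
  rw [B.S.F.twist.mem_esub, B.S.F.mem_esub, hcp]

/-- The inverted elements in coordinates. -/
theorem inverted_e {g : G} (hg : g ∈ B.S.F.esub) (hi : z * g * z⁻¹ = g⁻¹) :
    ∃ k l : Fin 3, g = B.e (mk4 (0, 0, k, l)) := by
  obtain ⟨k, l, rfl⟩ := B.C.inverted_coord B.S hg hi
  exact ⟨k, l, by rw [e, vd_mk]; simp [Cycle.coord]⟩

/-- The outer involution of the twisted frame exchanges the two inverted lines. -/
theorem swap_lines : ∀ w : G, (w = B.S.F.twist.f 576 ∨ w = B.S.F.twist.f 588) →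
    ∀ g ∈ B.S.F.esub, Commute g w → z * g * z⁻¹ = g⁻¹ → g ≠ 1 →
      ∃ k l : Fin 3, g = B.e (mk4 (0, 0, k, l)) ∧ k ≠ 0 ∧ l ≠ 0 := by
  obtain ⟨t2, -, -⟩ := B.S.F.outer_576
  intro w hw g hg hgw hi hg1
  obtain ⟨k, l, hkl⟩ := B.inverted_e hg hi
  have hc : ∀ x : G, (x = B.S.F.f 576 ∧ Commute g x) ∨ (x = B.S.F.f 588 ∧ Commute g x) → False := by
    intro x hx
    have hgz : z * g * z⁻¹ = g := by
      have key : Commute g (x * (w * x * w⁻¹)) := by
        rcases hx with ⟨-, h⟩ | ⟨-, h⟩ <;> exact h.mul_right ((hgw.mul_right h).mul_right hgw.inv_right)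
      have e1 : x * (w * x * w⁻¹) = z := by
        obtain ⟨w', hw', hwe⟩ : ∃ w', w' ∈ [(1014 : ℕ), 1026] ∧ w = B.S.F.f w' := by
          rcases hw with rfl | rfl
          · exact ⟨1014, by simp, B.S.F.twist_576⟩
          · exact ⟨1026, by simp, by rw [B.S.F.twist_f, show alphaH 588 = 1026 by decide +kernel]⟩
        have hw1 : w' < 1152 := by simp only [List.mem_cons, List.not_mem_nil, or_false] at hw'; omega
        obtain ⟨x', hx', hxe⟩ : ∃ x', x' ∈ [(576 : ℕ), 588] ∧ x = B.S.F.f x' := by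
          rcases hx with ⟨rfl, -⟩ | ⟨rfl, -⟩
          · exact ⟨576, by simp, rfl⟩
          · exact ⟨588, by simp, rfl⟩
        have hx1 : x' < 1152 := by simp only [List.mem_cons, List.not_mem_nil, or_false] at hx'; omega
        rw [hwe, hxe, ← B.S.F.f_cjH hw1 hx1, ← B.S.F.mul _ _ hx1 (cjH_lt _ _),
          (show ∀ a ∈ [(1014 : ℕ), 1026], ∀ b ∈ [(576 : ℕ), 588], mulH b (cjH a b) = 12 by decide +kernel) w' hw' x' hx',
          B.S.F.fz]
      exact conj_eq_iff_commute.2 (e1 ▸ key).symm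
    rw [hgz] at hi
    exact hg1 (by
      have h3 := B.C.esub_cube B.S hg
      nth_rw 2 [hi] at h3
      simpa using h3)
  refine ⟨k, l, hkl, fun hk => ?_, fun hl => ?_⟩
  · refine hc _ (Or.inr ⟨rfl, ?_⟩)
    rw [hkl, hk, e, vd_mk]
    simpa [Cycle.coord] using B.C.xs_rel.2.2.pow_left (l : ℕ)
  · refine hc _ (Or.inl ⟨rfl, ?_⟩)
    rw [hkl, hl, e, vd_mk]
    simpa [Cycle.coord] using B.C.xt_rel.2.2.pow_left (k : ℕ)

theorem lifts_m : ∃ c, B.Lifts (mMap c) := by
  obtain ⟨b1, b3, b9, b27⟩ := B.e_basis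
  have h153 : B.S.F.twist.f 153 = B.S.F.f 150 := by rw [B.S.F.twist_f, code_vals.1]
  set C' := B.C'
  have hp : C'.n * B.S.F.f 150 * C'.n⁻¹ = C'.xt := by rw [← h153]; rfl
  have hr : C'.n * C'.xt * C'.n⁻¹ = C'.xs := rfl
  have hu : C'.n * C'.xs * C'.n⁻¹ = B.S.F.f 150 := by rw [C'.conj_xs B.ha', h153]
  have h3 : C'.n * B.S.F.f 153 * C'.n⁻¹ = B.S.F.f 153 := by
    rw [← B.S.F.twist_150]; exact conj_eq_iff_commute.2 C'.nu
  have htE : C'.xt ∈ B.S.F.esub := B.twist_esub ▸ C'.xt_mem_esub B.S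
  have hsE : C'.xs ∈ B.S.F.esub := B.twist_esub ▸ C'.xs_mem_esub B.S
  obtain ⟨a, b, hab, ha, hb⟩ := B.swap_lines _ (Or.inl rfl) _ htE C'.xt_rel.2.2 C'.xt_rel.2.1 C'.uty_xt.2.1
  obtain ⟨c, d, hcd, hc, hd⟩ := B.swap_lines _ (Or.inr rfl) _ hsE C'.xs_rel.2.2 C'.xs_rel.1 C'.uty_xs.2.1
  have hne : ∀ v : Fin 3 × Fin 3 × Fin 3 × Fin 3, v.2.2.2 = 0 → C'.xs ≠ C'.coord v := by
    intro v hv hh
    have h2 : C'.coord ((0, 0, 0, 1) : Fin 3 × Fin 3 × Fin 3 × Fin 3) = C'.coord v := by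
      rw [← hh]; simp [Cycle.coord]
    rw [← C'.coord_inj B.S h2] at hv
    exact absurd hv (by decide)
  obtain ⟨i, hip, hir⟩ := case_cover a b c d ha hb hc hd
    (fun h => hne (0, 0, 1, 0) rfl (by rw [hcd, h, ← hab]; simp [Cycle.coord]))
    (fun h => hne (0, 0, 2, 0) rfl (by
      rw [hcd, h, B.e_neg, ← hab]
      simp only [Cycle.coord, Fin.val_zero, pow_zero, one_mul, mul_one, Fin.val_two]
      rw [pow_two]
      exact inv_eq_of_mul_eq_one_right (by rw [← mul_assoc]; exact C'.uty_xt.1)))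
  rw [← hip] at hab
  rw [← hir] at hcd
  have hP : C'.n * B.e (pOf i) * C'.n⁻¹ = B.e (rOf i) := by rw [← hab, ← hcd, hr]
  have hR : C'.n * B.e (rOf i) * C'.n⁻¹ = B.e 1 := by rw [← hcd, b1, hu]
  have hk : ∀ k : Fin 2, C'.n * B.e (if k = 0 then 9 else 27) * C'.n⁻¹ =
      B.e (if k = 0 then (imTab.getD i (0, 0)).1 else (imTab.getD i (0, 0)).2) := by
    intro k
    obtain ⟨α, β, e1, e2⟩ := m_spec i k
    rw [← e1, ← e2]
    exact B.conj_add _ (B.conj_smul _ hP _) (B.conj_smul _ hR _)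
  refine ⟨i, C'.n, B.conj_linW _ _ ?_ ?_ (by simpa using hk 0) (by simpa using hk 1)⟩
  · show _ = B.e (pOf i)
    rw [b1, hp, hab]
  · show _ = B.e 3
    rw [b3, h3]

theorem lifts_gen (k : Fin 3) : B.Lifts (app (gidx k)) := by
  obtain ⟨c, hm⟩ := B.lifts_m
  have hl : ∀ l, B.Lifts (letter c l) := by
    intro l
    fin_cases l
    exacts [B.lifts_n, hm, B.lifts_z, B.lifts_t]
  have hw : ∀ w, B.Lifts (wMap c w) := by
    intro w
    induction w with
    | nil => exact ⟨1, fun x => by simp [wMap]⟩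
    | cons l w ih =>
      obtain ⟨n, hn⟩ := B.lifts_comp (hl l) ih
      exact ⟨n, fun x => by rw [hn]; rfl⟩
  obtain ⟨n, hn⟩ := hw (wordOf c k)
  exact ⟨n, fun x => by rw [hn, word_spec]⟩

theorem lifts_app (a : Fin 360) : B.Lifts (app a) := by
  induction hi : (a : ℕ) using Nat.strong_induction_on generalizing a with
  | _ i ih =>
    rcases app_parent a with h | ⟨hlt, hp⟩
    · refine ⟨1, fun x => ?_⟩
      rw [show a = 0 from Fin.ext h, app_id]
      simp
    · obtain ⟨n, hn⟩ := B.lifts_comp (B.lifts_gen (parGen a)) (ih _ (hi ▸ hlt) (parent a) rfl)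
      exact ⟨n, fun x => by rw [hn, hp]⟩

/-- The orders of the centralisers. -/
theorem cent_nsing {x : V} (hx : Nsing x) : Nat.card (centralizer ({B.e x} : Set G)) = 972 := by
  obtain ⟨b1, b3, -, -⟩ := B.e_basis
  rcases hx with h | h
  · obtain ⟨n, hn⟩ := B.lifts_app (oneWit x)
    rw [← (kind_trans x).1 h, ← hn, cent_conj_card, b1]
    exact B.S.card_uty B.S.F.uty_150
  · obtain ⟨n, hn⟩ := B.lifts_app (threeWit x)
    rw [← (kind_trans x).2 h, ← hn, cent_conj_card, b3]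
    exact B.S.card_uty B.S.F.uty_153

theorem cent_sing {x : V} (hx : Sing x) : Nat.card (centralizer ({B.e x} : Set G)) = 5832 := by
  obtain ⟨k, hk⟩ := sing_trans x hx
  obtain ⟨n, hn⟩ := B.lifts_app (singWit k)
  obtain ⟨b1, b3, -, -⟩ := B.e_basis
  obtain ⟨-, hm, h6, h216, h9, -⟩ := code_vals
  obtain ⟨D⟩ := B.S.F.exists_odata
  have h144 : Nat.card (centralizer ({B.S.F.f 144} : Set G)) = 5832 := D.card_k1 B.S
  have h6' : Nat.card (centralizer ({B.S.F.f 6} : Set G)) = 5832 := by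
    rw [← h6, B.S.F.f_cjH (by norm_num) (by norm_num), cent_conj_card, h144]
  rw [← hk, ← hn, cent_conj_card, base4_spec.2.2.2.2.2.2.1, ← base4_spec.2.2.2.2.2.2.2, B.e_add, b1, b3,
    ← B.S.F.mul _ _ (by norm_num) (by norm_num)]
  simp only [List.mem_cons, List.not_mem_nil, or_false] at hm
  rcases hm with e | e | e | e <;> rw [e]
  · exact h144
  · rw [← h216, B.S.F.f_iH (by norm_num), cent_inv_card, h144]
  · exact h6'
  · rw [← h9, B.S.F.f_iH (by norm_num), cent_inv_card, h6']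

theorem cent_self {g : G} (h : ∀ x, g * B.e x = B.e x * g) : ∃ x, g = B.e x := by
  have hc : ∀ y ∈ B.S.F.esub, Commute g y := fun y hy => by
    obtain ⟨x, rfl⟩ := B.exists_e hy
    exact h x
  have hg : g ∈ B.S.F.cp := B.S.F.mem_cp.2
    ⟨hc _ (B.S.F.psub_le_esub ⟨144, by decide, rfl⟩), hc _ (B.S.F.psub_le_esub ⟨6, by decide, rfl⟩)⟩
  rcases B.S.F.cp_cases hg with h' | h'
  · obtain ⟨x, hx⟩ := B.exists_e h'
    exact ⟨x, hx.symm⟩
  · exfalso
    have hxt := B.C.xt_mem_esub B.S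
    have hz : Commute z B.C.xt := by
      have := (hc _ hxt).inv_left.mul_left (B.C.esub_comm B.S h' hxt)
      rwa [inv_mul_cancel_left] at this
    have hi := B.C.xt_rel.2.1
    rw [conj_eq_iff_commute.2 hz] at hi
    have h3 := B.C.uty_xt.1
    nth_rw 2 [hi] at h3
    exact B.C.uty_xt.2.1 (by simpa using h3)

/-! ### The normaliser -/

theorem exists_map {k : G} (hk : k ∈ normalizer (Set.range B.e)) (x : V) : ∃ y, k * B.e x * k⁻¹ = B.e y := by
  obtain ⟨y, hy⟩ := (Subgroup.mem_set_normalizer_iff.1 hk (B.e x)).1 ⟨x, rfl⟩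
  exact ⟨y, hy.symm⟩

/-- The map of an element of the normaliser. -/
noncomputable def act (k : G) (x : V) : V := open Classical in
  if h : ∃ y, k * B.e x * k⁻¹ = B.e y then h.choose else 0

theorem act_spec {k : G} (hk : k ∈ normalizer (Set.range B.e)) (x : V) : k * B.e x * k⁻¹ = B.e (B.act k x) := by
  rw [act, dif_pos (B.exists_map hk x)]
  exact (B.exists_map hk x).choose_spec

theorem act_add {k : G} (hk : k ∈ normalizer (Set.range B.e)) (x y : V) :
    B.act k (addV x y) = addV (B.act k x) (B.act k y) :=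
  B.e_inj (by rw [← B.act_spec hk, B.conj_add k (B.act_spec hk x) (B.act_spec hk y)])

theorem act_neg {k : G} (hk : k ∈ normalizer (Set.range B.e)) (x : V) : B.act k (negV x) = negV (B.act k x) :=
  B.e_inj (by rw [← B.act_spec hk, B.e_neg, B.e_neg, ← B.act_spec hk, conj_inv])

theorem act_inj {k : G} (hk : k ∈ normalizer (Set.range B.e)) : Function.Injective (B.act k) := fun x y h => by
  have := congrArg B.e h
  rw [← B.act_spec hk, ← B.act_spec hk] at this
  exact B.e_inj (mul_left_cancel (mul_right_cancel this))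

theorem act_zero {k : G} (hk : k ∈ normalizer (Set.range B.e)) : B.act k 0 = 0 :=
  B.e_inj (by rw [← B.act_spec hk, B.e_zero, mul_one, mul_inv_cancel])

theorem act_ne {k : G} (hk : k ∈ normalizer (Set.range B.e)) {x : V} (hx : x ≠ 0) : B.act k x ≠ 0 := fun h =>
  hx (B.act_inj hk (h.trans (B.act_zero hk).symm))

theorem act_sing {k : G} (hk : k ∈ normalizer (Set.range B.e)) (x : V) : Sing (B.act k x) ↔ Sing x := by
  by_cases hx : x = 0
  · rw [hx, B.act_zero hk]
  have hy := B.act_ne hk hx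
  have hc := cent_conj_card k (B.e x)
  rw [B.act_spec hk x] at hc
  rcases (kind_cases x).resolve_left hx with h1 | h1 <;> rcases (kind_cases _).resolve_left hy with h2 | h2
  · exact iff_of_true h2 h1
  · rw [B.cent_nsing h2, B.cent_sing h1] at hc; omega
  · rw [B.cent_sing h2, B.cent_nsing h1] at hc; omega
  · exact iff_of_false (nsing_ne _ h2).2.1 (nsing_ne _ h1).2.1

theorem act_nsing {k : G} (hk : k ∈ normalizer (Set.range B.e)) {x : V} (hx : Nsing x) : Nsing (B.act k x) :=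
  ((kind_cases _).resolve_left (B.act_ne hk (nsing_ne x hx).1)).resolve_left fun h =>
    (nsing_ne x hx).2.1 ((B.act_sing hk x).1 h)

/-- The image of the four singular vectors. -/
noncomputable def img (k : G) : Finset V := base4.image (B.act k)

theorem img_mem {k : G} (hk : k ∈ normalizer (Set.range B.e)) :
    B.img k ∈ (((Finset.univ : Finset (Fin 10 × Fin 10)).filter fun p => p.1 ≠ p.2).image quad) := by
  obtain ⟨n4, n5, s4, s5, h54, h54', -, -⟩ := base4_spec
  obtain ⟨i, hi⟩ := rep_cover _ ((B.act_sing hk 4).2 s4)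
  obtain ⟨j, hj⟩ := rep_cover _ ((B.act_sing hk 5).2 s5)
  have hn : ∀ x : V, negV (negV x) = x := fun x => (addV_zero x).2.2.2.2
  refine Finset.mem_image.2 ⟨(i, j), Finset.mem_filter.2 ⟨Finset.mem_univ _, ?_⟩, ?_⟩
  · rintro (rfl : i = j)
    have : B.act k 5 = B.act k 4 ∨ B.act k 5 = B.act k (negV 4) := by
      rw [B.act_neg hk]
      rcases hi with h1 | h1 <;> rcases hj with h2 | h2 <;> simp [h1, h2, hn]
    rcases this with h | h
    · exact h54 (B.act_inj hk h)
    · exact h54' (B.act_inj hk h)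
  · have e : B.img k = {B.act k 4, negV (B.act k 4), B.act k 5, negV (B.act k 5)} := by
      rw [img, ← B.act_neg hk, ← B.act_neg hk, n4, n5]
      simp only [base4, Finset.image_insert, Finset.image_singleton]
      ext x
      simp only [Finset.mem_insert, Finset.mem_singleton]
      tauto
    rw [e, quad]
    ext x
    simp only [Finset.mem_insert, Finset.mem_singleton]
    rcases hi with h1 | h1 <;> rcases hj with h2 | h2 <;> simp only [h1, h2, hn] <;> tauto

theorem act_z_comm {k : G} (hk : k ∈ normalizer (Set.range B.e)) (h4 : B.img k = base4) (x : V) :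
    B.act k (zMap x) = zMap (B.act k x) := by
  have hmem : ∀ y, y = 0 ∨ y ∈ base4 → B.act k y = 0 ∨ B.act k y ∈ base4 := by
    rintro y (rfl | hy)
    · exact Or.inl (B.act_zero hk)
    · exact Or.inr (h4 ▸ Finset.mem_image_of_mem _ hy)
  have hI : ∀ y, InvP y → InvP (B.act k y) := by
    rintro y ⟨hy1, hy2⟩
    refine ⟨B.act_nsing hk hy1, fun p hp hs => ?_⟩
    have hp' : p ∈ base4 := by simpa [base4] using hp
    rw [← h4, img, Finset.mem_image] at hp'
    obtain ⟨q, hq, rfl⟩ := hp'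
    rw [← B.act_add hk, B.act_sing hk] at hs
    exact hy2 q (by simpa [base4] using hq) hs
  obtain ⟨⟨i, j, a, b⟩, rfl⟩ : ∃ v, mk4 v = x := ⟨vd x, mk_vd x⟩
  obtain ⟨hadd, hzm, hiv⟩ := split i j a b
  obtain ⟨p, hp, p', hp', hpp⟩ := plane_gen i j
  rw [hzm, ← hadd, B.act_add hk, B.act_add hk, B.act_neg hk, z_add, hpp, B.act_add hk, z_add,
    z_fixed _ (hmem p (zero_or_four p hp)), z_fixed _ (hmem p' (zero_or_four p' hp'))]
  rcases hiv with h0 | h0
  · rw [h0, B.act_zero hk, show zMap 0 = negV 0 by decide +kernel]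
  · rw [invP_iff _ (hI _ h0)]

theorem z_mem_norm : z ∈ normalizer (Set.range B.e) := by
  rw [B.range_e, Subgroup.mem_set_normalizer_iff]
  intro y
  simp only [SetLike.mem_coe]
  refine ⟨fun hy => ?_, fun hy => ?_⟩
  · exact B.S.F.esub_conj (fun p hp => by rw [conj_eq_iff_commute.2 (B.S.F.psub_z hp).symm]; exact hp) hy
  · have := B.S.F.esub_conj (a := z) (fun p hp => by rw [conj_eq_iff_commute.2 (B.S.F.psub_z hp).symm]; exact hp) hy
    rwa [show z * (z * y * z⁻¹) * z⁻¹ = (z * z) * y * (z * z)⁻¹ by group, B.S.F.centre_sq, one_mul, inv_one,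
      mul_one] at this

theorem card_fix_z :
    {k | k ∈ normalizer (Set.range B.e) ∧ Commute k z}.ncard ≤ 72 := by
  set T := {k | k ∈ normalizer (Set.range B.e) ∧ Commute k z}
  rw [← norm_codes]
  classical
  refine le_trans (Set.ncard_le_ncard (t := ↑((((List.range 1152).filter fun g => List.contains pList (cjH g 144) &&
    List.contains pList (cjH g 6)).toFinset).image B.S.F.f)) ?_ (Set.toFinite _)) ?_
  · rintro k ⟨hk, hkz⟩
    obtain ⟨g, hg, rfl⟩ := B.S.F.surj k hkz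
    refine Finset.mem_coe.2 (Finset.mem_image.2 ⟨g, ?_, rfl⟩)
    have key : ∀ a ∈ pList, cjH g a ∈ pList := by
      intro a ha
      obtain ⟨x, hx⟩ := B.exists_e (B.S.F.psub_le_esub ⟨a, ha, rfl⟩ : B.S.F.f a ∈ B.S.F.esub)
      obtain ⟨y, hy⟩ := B.exists_map hk x
      rw [hx, ← B.S.F.f_cjH hg (pList_lt a ha)] at hy
      have hp := B.S.F.esub_fixed (hy ▸ B.e_mem y) (B.S.F.comm _ (cjH_lt _ _))
      obtain ⟨b, hb, hbe⟩ := hp
      rwa [B.S.F.inj _ _ (cjH_lt _ _) (pList_lt b hb) hbe.symm]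
    simp only [List.mem_toFinset, List.mem_filter, List.mem_range, Bool.and_eq_true, List.contains_iff_mem]
    exact ⟨hg, key 144 (by decide), key 6 (by decide)⟩
  · rw [Set.ncard_coe_finset]
    exact Finset.card_image_le.trans (List.toFinset_card_le _)

theorem card_stab : {k | k ∈ normalizer (Set.range B.e) ∧ B.img k = base4}.ncard ≤ 648 := by
  classical
  haveI := Fintype.ofFinite G
  set M := Finset.univ.filter fun k : G => k ∈ normalizer (Set.range B.e) ∧ B.img k = base4 with hM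
  rw [show {k | k ∈ normalizer (Set.range B.e) ∧ B.img k = base4} = (M : Set G) by ext k; simp [hM],
    Set.ncard_coe_finset]
  set Y := (Finset.univ.filter fun x : V => addV x (zMap x) = 0).image fun x => B.e x * z with hY
  have hYc : Y.card ≤ 9 := Finset.card_image_le.trans z_neg_count.le
  have hmaps : ∀ k ∈ M, k * z * k⁻¹ ∈ Y := by
    intro k hk
    simp only [hM, Finset.mem_filter, Finset.mem_univ, true_and] at hk
    obtain ⟨hk, h4⟩ := hk
    obtain ⟨x, hx⟩ := B.cent_self (g := k * z * k⁻¹ * z⁻¹) fun y => by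
      refine mul_inv_eq_iff_eq_mul.1 ?_
      obtain ⟨y', hy'⟩ : ∃ y', B.act k y' = zMap y :=
        ⟨_, ((Finite.injective_iff_surjective.1 (B.act_inj hk)) _).choose_spec⟩
      have hz1 : z⁻¹ * B.e y * z = B.e (zMap y) := by
        rw [← B.z_spec y, B.S.F.centre_inv]
      calc k * z * k⁻¹ * z⁻¹ * B.e y * (k * z * k⁻¹ * z⁻¹)⁻¹
          = k * (z * (k⁻¹ * (z⁻¹ * B.e y * z) * k) * z⁻¹) * k⁻¹ := by group
        _ = k * (z * B.e y' * z⁻¹) * k⁻¹ := by
            rw [hz1, ← hy', ← B.act_spec hk y']; group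
        _ = B.e y := by
            rw [B.z_spec, B.act_spec hk, B.act_z_comm hk h4, hy']
            exact congrArg _ ((show ∀ y : V, zMap (zMap y) = y by decide +kernel) y)
    refine Finset.mem_image.2 ⟨x, Finset.mem_filter.2 ⟨Finset.mem_univ _, B.e_inj ?_⟩, ?_⟩
    · rw [B.e_add, ← B.z_spec, ← hx, B.e_zero, B.S.F.centre_inv]
      calc k * z * k⁻¹ * z * (z * (k * z * k⁻¹ * z) * z) = k * z * k⁻¹ * (z * z) * (k * z * k⁻¹) * (z * z) := by group
        _ = k * (z * z) * k⁻¹ := by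
            conv_lhs => rw [B.S.F.centre_sq]
            group
        _ = 1 := by rw [B.S.F.centre_sq]; group
    · rw [← hx]; group
  refine (Finset.card_le_mul_card_image_of_maps_to hmaps 72 ?_).trans (by omega)
  intro y _
  rcases (M.filter fun k => k * z * k⁻¹ = y).eq_empty_or_nonempty with h | ⟨k0, hk0⟩
  · rw [h]; simp
  simp only [hM, Finset.mem_filter, Finset.mem_univ, true_and] at hk0
  refine le_trans ?_ B.card_fix_z
  rw [← Set.ncard_coe_finset]
  refine Set.ncard_le_ncard_of_injOn (fun k => k0⁻¹ * k) ?_ (fun a _ b _ h => mul_left_cancel h) (Set.toFinite _)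
  intro k hk
  simp only [hM, Finset.coe_filter, Finset.mem_filter, Finset.mem_univ, true_and, Set.mem_ofPred_eq] at hk
  refine ⟨mul_mem (inv_mem hk0.1.1) hk.1.1, ?_⟩
  refine mul_inv_eq_iff_eq_mul.1 ?_
  calc k0⁻¹ * k * z * (k0⁻¹ * k)⁻¹ = k0⁻¹ * (k * z * k⁻¹) * k0 := by group
    _ = z := by rw [hk.2, ← hk0.2]; group

theorem card_norm_le : Nat.card (normalizer (Set.range B.e)) ≤ 29160 := by
  classical
  haveI := Fintype.ofFinite G
  rw [show Nat.card (normalizer (Set.range B.e)) = (normalizer (Set.range B.e) : Set G).ncard from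
    Nat.card_coe_set_eq _, show ((normalizer (Set.range B.e)) : Set G) =
      ↑(Finset.univ.filter fun k : G => k ∈ normalizer (Set.range B.e)) by ext k; simp, Set.ncard_coe_finset]
  refine (Finset.card_le_mul_card_image_of_maps_to (f := B.img)
    (fun k hk => B.img_mem (by simpa using hk)) 648 ?_).trans ?_
  · intro y _
    rcases ((Finset.univ.filter fun k : G => k ∈ normalizer (Set.range B.e)).filter
      fun k => B.img k = y).eq_empty_or_nonempty with h | ⟨k0, hk0⟩
    · rw [h]; simp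
    simp only [Finset.mem_filter, Finset.mem_univ, true_and] at hk0
    refine le_trans ?_ B.card_stab
    rw [← Set.ncard_coe_finset]
    refine Set.ncard_le_ncard_of_injOn (fun k => k0⁻¹ * k) ?_ (fun a _ b _ h => mul_left_cancel h) (Set.toFinite _)
    intro k hk
    simp only [Finset.coe_filter, Finset.mem_filter, Finset.mem_univ, true_and, Set.mem_ofPred_eq] at hk
    have hm : k0⁻¹ * k ∈ normalizer (Set.range B.e) := mul_mem (inv_mem hk0.1) hk.1
    refine ⟨hm, ?_⟩
    have hcomp : ∀ x, B.act k0 (B.act (k0⁻¹ * k) x) = B.act k x := fun x => B.e_inj (by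
      rw [← B.act_spec hk0.1, ← B.act_spec hm, ← B.act_spec hk.1]; group)
    refine Finset.image_injective (B.act_inj hk0.1) ?_
    show (base4.image (B.act (k0⁻¹ * k))).image (B.act k0) = B.img k0
    rw [Finset.image_image, hk0.2, ← hk.2, img]
    exact Finset.image_congr fun x _ => hcomp x
  · exact (Nat.mul_le_mul_left 648 quad_count).trans (by norm_num)

theorem norm_of_map {n : G} {f : V → V} (h : ∀ x, n * B.e x * n⁻¹ = B.e (f x)) :
    n ∈ normalizer (Set.range B.e) := by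
  classical
  rw [Subgroup.mem_set_normalizer_iff]
  intro y
  refine ⟨fun ⟨x, hx⟩ => hx ▸ ⟨f x, (h x).symm⟩, fun ⟨x, hx⟩ => ?_⟩
  have hf : Function.Injective f := fun u v e => B.e_inj (by
    have := congrArg B.e e
    rw [← h, ← h] at this
    exact mul_left_cancel (mul_right_cancel this))
  obtain ⟨u, rfl⟩ := (Finite.injective_iff_surjective.1 hf) x
  exact ⟨u, mul_left_cancel (mul_right_cancel ((h u).trans hx))⟩

theorem card_norm : Nat.card (normalizer (Set.range B.e)) = 29160 := by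
  refine le_antisymm B.card_norm_le ?_
  choose n hn using B.lifts_app
  have hcomm : ∀ y x, B.e y * B.e x * (B.e y)⁻¹ = B.e x := fun y x =>
    conj_eq_iff_commute.2 (B.C.esub_comm B.S (B.e_mem y) (B.e_mem x))
  have hne : ∀ a y x, n a * B.e y * B.e x * (n a * B.e y)⁻¹ = B.e (app a x) := fun a y x => by
    calc n a * B.e y * B.e x * (n a * B.e y)⁻¹ = n a * (B.e y * B.e x * (B.e y)⁻¹) * (n a)⁻¹ := by group
      _ = _ := by rw [hcomm, hn]
  let f : Fin 360 × V → normalizer (Set.range B.e) := fun p =>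
    ⟨n p.1 * B.e p.2, mul_mem (B.norm_of_map (hn p.1)) (B.norm_of_map (f := fun x => x) (hcomm p.2))⟩
  have hf : Function.Injective f := by
    rintro ⟨a, x⟩ ⟨b, y⟩ h
    have h' : n a * B.e x = n b * B.e y := congrArg Subtype.val h
    have hab : a = b := app_inj_idx fun v => B.e_inj (by rw [← hne a x, ← hne b y, h'])
    subst hab
    exact Prod.ext rfl (B.e_inj (mul_left_cancel h'))
  have := Nat.card_le_card_of_injective f hf
  rw [Nat.card_prod, Nat.card_eq_fintype_card, Nat.card_eq_fintype_card, Fintype.card_fin, Fintype.card_fin] at this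
  exact this

end Base

end Bridge

/-- The local data from a setting of `U43T`. -/
theorem exists_loc {G : Type*} [Group G] [Finite G] {z : G} (S : U43T.Setting z)
    (hG : Nat.card G = 3265920) : Nonempty (U43Rec.Loc G) := by
  obtain ⟨B⟩ := Bridge.exists_base S
  refine ⟨{ e := B.e, e_add := B.e_add, e_inj := B.e_inj, lift := B.lifts_app, card_norm := B.card_norm,
            card_G := hG, cent_nsing := fun x hx => B.cent_nsing hx, cent_sing := fun x hx => B.cent_sing hx,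
            cent_self := fun g hg => B.cent_self hg, one_class := ?_ }⟩
  intro s t hs hs1 ht ht1
  exact (B.S.one_class hs hs1).symm.trans (B.S.one_class ht ht1)

end Cfsg.Agent.U43Rec
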