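import Cfsg.Agent.Lib.U43Rec.Model
import Mathlib.Data.Set.Card

/-!
Finite checks on the linear forms, for the determination of the graph.
-/

set_option autoImplicit false
set_option maxRecDepth 100000
set_option Elab.async false

namespace Cfsg.Agent.U43Rec

theorem fn_negV : ∀ i : Fin 10, ∀ x : V, fn i (negV x) = - fn i x := by decide +kernel

theorem f3_facts : ∀ c : Fin 3, (c + c = 0 → c = 0) ∧ -(-c) + c = -c ∧ (c = -c → c = 0) := by decide +kernel

theorem line_swap : ∀ i j : Fin 10, ∀ a : Fin 360, app a (rep i) = negV (rep j) → app a (negV (rep i)) = rep j := by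
  decide +kernel

theorem fin112_cases : ∀ a : Fin 112, a ≠ 0 → (a : ℕ) ≤ 30 → ((a : ℕ) - 1) / 3 < 10 := by decide +kernel

theorem fn_zero' : ∀ i : Fin 10, fn i 0 = 0 := by decide +kernel

theorem fn_onto : ∀ i : Fin 10, ∀ c : Fin 3, ∃ x : V, fn i x = c := by decide +kernel

theorem fn_count : ∀ i : Fin 10, ∀ c : Fin 3, (Finset.univ.filter fun x : V => fn i x = c).card = 27 := by
  decide +kernel

theorem class_count : (Finset.univ.filter fun x : V => kind x = 1).card = 20 ∧
    (Finset.univ.filter fun x : V => kind x = 2).card = 30 ∧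
    (Finset.univ.filter fun x : V => kind x = 3).card = 30 := by decide +kernel

theorem c12 : ∀ c : Fin 3, c ≠ 0 → ∃ d : Fin 2, (c : ℕ) = d + 1 := by decide +kernel

theorem card_near_filter : ∀ A B : Bool,
    (Finset.univ.filter fun ic : Fin 10 × Fin 3 => if ic.2 = 0 then A = true else B = true).card =
      (if A then 10 else 0) + (if B then 20 else 0) := by decide +kernel

theorem card_far_filter : ∀ C D E : Bool,
    (Finset.univ.filter fun x : V => (kind x = 1 ∧ C = true) ∨ (kind x = 2 ∧ D = true) ∨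
      (kind x = 3 ∧ E = true)).card =
      (if C then 20 else 0) + (if D then 30 else 0) + (if E then 30 else 0) := by decide +kernel

theorem ncard_compl_single (c : Fin 3) : ({c}ᶜ : Set (Fin 3)).ncard = 2 := by
  rw [Set.ncard_compl]
  simp

theorem ncard_fn_eq (i : Fin 10) (c : Fin 3) : {x : V | fn i x = c}.ncard = 27 := by
  rw [← fn_count i c, ← Set.ncard_coe_finset]
  congr 1
  ext x
  simp

theorem near_decode : ∀ i : Fin 10, ∀ c : Fin 3, nearPt i c ≠ 0 ∧ (nearPt i c : ℕ) ≤ 30 ∧
    Fin.ofNat 10 (((nearPt i c : ℕ) - 1) / 3) = i ∧ Fin.ofNat 3 (((nearPt i c : ℕ) - 1) % 3) = c := by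
  decide +kernel

theorem far_decode : ∀ x : V, farPt x ≠ 0 ∧ ¬ (farPt x : ℕ) ≤ 30 ∧ Fin.ofNat 81 ((farPt x : ℕ) - 31) = x := by
  decide +kernel

end Cfsg.Agent.U43Rec
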