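import Cfsg.Agent.Lib.U43Rec.Complement

/-!
The graph on the conjugates of `E`: two points are adjacent when their subgroups meet non-trivially.
-/

set_option autoImplicit false
set_option linter.unusedSectionVars false

namespace Cfsg.Agent.U43Rec

open Subgroup

theorem count_cases : ∀ A B C D E : Bool,
    (if A then 10 else 0) + (if B then 20 else 0) + ((if C then 20 else 0) + (if D then 30 else 0) +
      (if E then 30 else 0)) = 30 →
    (A = true ∧ B = true) ∨ (A = false ∧ B = false) ∨ (A = true ∧ B = false ∧ C = true ∧ D = false ∧ E = false) := by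
  decide

namespace Loc

variable {G : Type*} [Group G] [Finite G] (L : Loc G)
include L

/-- Adjacency. -/
def Adj (q r : L.Pt) : Prop := q ≠ r ∧ ∃ g : G, g • L.o = q ∧ ∃ x, x ≠ 0 ∧ L.Meets (g⁻¹ • r) x

theorem adj_smul {q r : L.Pt} (h : L.Adj q r) (k : G) : L.Adj (k • q) (k • r) := by
  obtain ⟨hne, g, hg, x, hx, hm⟩ := h
  exact ⟨fun e => hne (MulAction.injective k e), k * g, by rw [mul_smul, hg], x, hx,
    by rwa [mul_inv_rev, mul_smul, inv_smul_smul]⟩

theorem adj_smul_iff {q r : L.Pt} (k : G) : L.Adj (k • q) (k • r) ↔ L.Adj q r :=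
  ⟨fun h => by
    have := L.adj_smul h k⁻¹
    rwa [inv_smul_smul, inv_smul_smul] at this, fun h => L.adj_smul h k⟩

theorem adj_o {r : L.Pt} : L.Adj L.o r ↔ ∃ i, r ∈ L.line i := by
  constructor
  · rintro ⟨hne, g, hg, x, hx, hm⟩
    obtain ⟨a, ha⟩ := L.act_of_mem (L.smul_o_eq.1 hg)
    have h := L.meets_smul ha hm
    rw [smul_inv_smul] at h
    have h0 : app a x ≠ 0 := fun e => hx (L.app_injective a (e.trans (L.app_zero a).symm))
    obtain ⟨i, hi⟩ := rep_cover _ ((L.sing_of_meets hne.symm h).resolve_left h0)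
    refine ⟨i, hne.symm, ?_⟩
    rcases hi with e | e
    · exact e ▸ h
    · have := L.meets_neg (e ▸ h : L.Meets r (negV (rep i)))
      rwa [(addV_zero (rep i)).2.2.2.2] at this
  · rintro ⟨i, hne, hm⟩
    exact ⟨hne.symm, 1, one_smul _ _, rep i, (sing_ne _ (rep_facts i).1).1, by rwa [inv_one, one_smul]⟩

theorem adj_symm {q r : L.Pt} (h : L.Adj q r) : L.Adj r q := by
  obtain ⟨hne, g, hg, x, hx, h', hh', y, hy⟩ := h
  refine ⟨hne.symm, g * h', by rw [mul_smul, hh', smul_inv_smul], y, fun e => ?_, ?_⟩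
  · rw [e, L.e_zero, mul_one, mul_inv_cancel] at hy
    exact L.e_ne_one hx hy.symm
  · refine ⟨h'⁻¹, ?_, x, by rw [← hy]; group⟩
    rw [mul_inv_rev, mul_smul, ← hg, inv_smul_smul]

theorem adj_same_line {i : Fin 10} {q r : L.Pt} (hq : q ∈ L.line i) (hr : r ∈ L.line i) (hne : q ≠ r) :
    L.Adj q r := by
  obtain ⟨g, rfl⟩ := L.exists_smul_o q
  obtain ⟨h, rfl⟩ := L.exists_smul_o r
  obtain ⟨y, hy⟩ := (L.meets_iff rfl).1 hq.2
  obtain ⟨y', hy'⟩ := (L.meets_iff rfl).1 hr.2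
  refine ⟨hne, g, rfl, y, fun e => ?_, g⁻¹ * h, by rw [mul_smul], y', ?_⟩
  · rw [e, L.e_zero, mul_one, mul_inv_cancel] at hy
    exact L.e_ne_one (sing_ne _ (rep_facts i).1).1 hy.symm
  · calc g⁻¹ * h * L.e y' * (g⁻¹ * h)⁻¹ = g⁻¹ * (h * L.e y' * h⁻¹) * g := by group
      _ = L.e y := by rw [hy', ← hy]; group

/-- The neighbours of a point. -/
def nb (q : L.Pt) : Set L.Pt := {r | L.Adj q r}

theorem nb_o : L.nb L.o = ⋃ i, L.line i := by
  ext r
  simp [nb, L.adj_o]

theorem nb_smul (k : G) (q : L.Pt) : L.nb (k • q) = (k • ·) '' L.nb q := by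
  ext r
  constructor
  · intro h
    refine ⟨k⁻¹ • r, ?_, smul_inv_smul _ _⟩
    show L.Adj q (k⁻¹ • r)
    rw [← L.adj_smul_iff k, smul_inv_smul]
    exact h
  · rintro ⟨r, h, rfl⟩
    exact L.adj_smul h k

variable (p : L.far)

theorem nb_o_eq : L.nb L.o = Set.range fun ic : Fin 10 × Fin 3 => L.np p ic.1 ic.2 := by
  rw [L.nb_o]
  ext r
  simp only [Set.mem_iUnion, Set.mem_range, Prod.exists]
  constructor
  · rintro ⟨i, hi⟩
    obtain ⟨x, rfl⟩ := L.line_trans (L.base_mem p i) hi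
    exact ⟨i, fn i x, (L.e_base p i x).symm⟩
  · rintro ⟨i, c, rfl⟩
    exact ⟨i, L.np_mem p i c⟩

theorem card_nb (q : L.Pt) : (L.nb q).ncard = 30 := by
  obtain ⟨g, rfl⟩ := L.exists_smul_o q
  rw [L.nb_smul, Set.ncard_image_of_injective _ (MulAction.injective g)]
  obtain ⟨p, hp⟩ := L.exists_far
  rw [L.nb_o_eq ⟨p, hp⟩, Set.ncard_range_of_injective
    (fun a b h => Prod.ext (L.np_inj _ h).1 (L.np_inj _ h).2), Nat.card_eq_fintype_card]
  rfl

theorem adj_cl (a : Fin 360) {r : L.Pt} :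
    L.Adj (p : L.Pt) (L.cl p a • r) ↔ L.Adj (p : L.Pt) r := by
  conv_lhs => rw [← L.cl_fix p a]
  exact L.adj_smul_iff _

theorem adj_base_iff (i : Fin 10) :
    L.Adj (p : L.Pt) (L.base p i) ↔ L.Adj (p : L.Pt) (L.base p 0) := by
  obtain ⟨a, ha⟩ := L.exists_app_rep 0 (rep_facts i).1
  rw [← L.base_map p (Or.inl ha), L.adj_cl]

theorem adj_off_iff (i : Fin 10) {c : Fin 3} (hc : c ≠ 0) :
    L.Adj (p : L.Pt) (L.np p i c) ↔ L.Adj (p : L.Pt) (L.np p 0 1) := by
  obtain ⟨d, hd⟩ := c12 c hc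
  obtain ⟨h1, h2⟩ := near_trans i d
  rw [show L.np p i c = L.cl p (nearW i d) • L.np p 0 1 by
    rw [← x0_spec, L.cl_np p _ h1]
    congr 1
    exact Fin.ext (by rw [h2, hd]), L.adj_cl]

theorem adj_kind_iff {x : V} (r : V) (hx : ∃ a, app a r = x) :
    L.Adj (p : L.Pt) (L.e x • (p : L.Pt)) ↔ L.Adj (p : L.Pt) (L.e r • (p : L.Pt)) := by
  obtain ⟨a, rfl⟩ := hx
  rw [show L.e (app a r) • (p : L.Pt) = L.cl p a • L.e r • (p : L.Pt) by rw [L.cl_smul_e, L.cl_fix], L.adj_cl]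

theorem adj_far_kind (x : V) :
    (kind x = 1 → (L.Adj (p : L.Pt) (L.e x • (p : L.Pt)) ↔ L.Adj (p : L.Pt) (L.e (rep 0) • (p : L.Pt)))) ∧
    (kind x = 2 → (L.Adj (p : L.Pt) (L.e x • (p : L.Pt)) ↔ L.Adj (p : L.Pt) (L.e 1 • (p : L.Pt)))) ∧
    (kind x = 3 → (L.Adj (p : L.Pt) (L.e x • (p : L.Pt)) ↔ L.Adj (p : L.Pt) (L.e 3 • (p : L.Pt)))) :=
  ⟨fun h => L.adj_kind_iff p _ (by obtain ⟨k, hk⟩ := sing_trans x h; exact ⟨_, hk⟩),
    fun h => L.adj_kind_iff p _ ⟨_, (kind_trans x).1 h⟩, fun h => L.adj_kind_iff p _ ⟨_, (kind_trans x).2 h⟩⟩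

/-- Some near point is not adjacent to the far base point. -/
theorem not_all_near (h0 : L.Adj (p : L.Pt) (L.base p 0)) (h1 : L.Adj (p : L.Pt) (L.np p 0 1)) : False := by
  have hall : ∀ i c, L.Adj (p : L.Pt) (L.np p i c) := by
    intro i c
    by_cases hc : c = 0
    · rw [hc, L.np_zero, L.adj_base_iff]; exact h0
    · rw [L.adj_off_iff p i hc]; exact h1
  have hsub : (Set.range fun x => L.e x • (p : L.Pt)) ⊆ L.nb (L.np p 0 0) := by
    rintro _ ⟨x, rfl⟩
    have := L.adj_smul (L.adj_symm (hall 0 (-fn 0 x))) (L.e x)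
    rwa [L.e_np, add_neg_cancel] at this
  have := Set.ncard_le_ncard hsub
  rw [L.card_nb, Set.ncard_range_of_injective (fun x y h => L.far_inj p h), Nat.card_eq_fintype_card,
    Fintype.card_fin] at this
  omega

/-- The graph is not a union of cliques. -/
theorem not_cliques (h : ∀ i c x, ¬ L.Adj (L.np p i c) (L.e x • (p : L.Pt))) : False := by
  let C : L.Pt → Set L.Pt := fun q => insert q (L.nb q)
  have hC : ∀ q, (C q).ncard = 31 := fun q => by
    simp only [C]
    rw [Set.ncard_insert_of_notMem (fun hq => hq.1 rfl), L.card_nb]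
  have hCo : ∀ r ∈ C L.o, C r = C L.o := by
    rintro r (rfl | hr)
    · rfl
    obtain ⟨⟨i, c⟩, rfl⟩ := (L.nb_o_eq p) ▸ hr
    refine Set.eq_of_subset_of_ncard_le ?_ (by rw [hC, hC])
    rintro q (rfl | hq)
    · exact Or.inr hr
    · rcases L.cases_np p q with rfl | ⟨j, d, rfl⟩ | ⟨x, rfl⟩
      · exact Set.mem_insert _ _
      · exact Or.inr (L.adj_o.2 ⟨j, L.np_mem p j d⟩)
      · exact absurd hq (h i c x)
  have hCg : ∀ g q, C (g • q) = (g • ·) '' C q := fun g q => by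
    simp only [C]
    rw [L.nb_smul, Set.image_insert_eq]
  have heq : ∀ q r, r ∈ C q → C r = C q := by
    intro q r hr
    obtain ⟨g, rfl⟩ := L.exists_smul_o q
    rw [hCg] at hr
    obtain ⟨r, hr', rfl⟩ := hr
    rw [hCg, hCg, hCo r hr']
  have hdis : ∀ q r, r ∉ C q → Disjoint (C q) (C r) := by
    intro q r hr
    refine Set.disjoint_left.2 fun s hs hs' => hr ?_
    rw [← heq q s hs, heq r s hs']
    exact Set.mem_insert _ _
  have huniv := L.card_pt
  rw [← Set.ncard_univ] at huniv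
  -- four pairwise disjoint classes
  have pick : ∀ S : Set L.Pt, S.ncard < 112 → ∃ r, r ∉ S := by
    intro S hS
    by_contra hc
    push Not at hc
    rw [Set.eq_univ_of_forall hc, huniv] at hS
    omega
  obtain ⟨r1, hr1⟩ := pick (C L.o) (by rw [hC]; norm_num)
  have d1 := hdis _ _ hr1
  obtain ⟨r2, hr2⟩ := pick (C L.o ∪ C r1) (by rw [Set.ncard_union_eq d1, hC, hC]; norm_num)
  rw [Set.mem_union, not_or] at hr2
  have d2 : Disjoint (C L.o ∪ C r1) (C r2) := Disjoint.union_left (hdis _ _ hr2.1) (hdis _ _ hr2.2)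
  obtain ⟨r3, hr3⟩ := pick (C L.o ∪ C r1 ∪ C r2)
    (by rw [Set.ncard_union_eq d2, Set.ncard_union_eq d1, hC, hC, hC]; norm_num)
  rw [Set.mem_union, Set.mem_union, not_or, not_or] at hr3
  have d3 : Disjoint (C L.o ∪ C r1 ∪ C r2) (C r3) :=
    Disjoint.union_left (Disjoint.union_left (hdis _ _ hr3.1.1) (hdis _ _ hr3.1.2)) (hdis _ _ hr3.2)
  have := Set.ncard_le_ncard (Set.subset_univ (C L.o ∪ C r1 ∪ C r2 ∪ C r3))
  rw [Set.ncard_union_eq d3, Set.ncard_union_eq d2, Set.ncard_union_eq d1, hC, hC, hC, hC, huniv] at this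
  omega

/-- The neighbours of the far base point. -/
theorem nb_p : (∀ i c, L.Adj (p : L.Pt) (L.np p i c) ↔ c = 0) ∧
    ∀ x, L.Adj (p : L.Pt) (L.e x • (p : L.Pt)) ↔ Sing x := by
  classical
  let R : Finset (Fin 10 × Fin 3) := Finset.univ.filter fun ic => L.Adj (p : L.Pt) (L.np p ic.1 ic.2)
  let S : Finset V := Finset.univ.filter fun x => L.Adj (p : L.Pt) (L.e x • (p : L.Pt))
  have hA : L.nb (p : L.Pt) = (fun ic : Fin 10 × Fin 3 => L.np p ic.1 ic.2) '' (R : Set _) ∪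
      (fun x => L.e x • (p : L.Pt)) '' (S : Set _) := by
    ext r
    constructor
    · intro hr
      rcases L.cases_np p r with rfl | ⟨i, c, rfl⟩ | ⟨x, rfl⟩
      · obtain ⟨i, hi⟩ := L.adj_o.1 (L.adj_symm hr)
        exact absurd hi (p.2.2 i)
      · exact Or.inl ⟨(i, c), by simp [R]; exact hr, rfl⟩
      · exact Or.inr ⟨x, by simp [S]; exact hr, rfl⟩
    · rintro (⟨⟨i, c⟩, h, rfl⟩ | ⟨x, h, rfl⟩)
      · simpa [R, nb] using h
      · simpa [S, nb] using h
  have hcard : R.card + S.card = 30 := by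
    rw [← L.card_nb (p : L.Pt), hA, Set.ncard_union_eq,
      Set.ncard_image_of_injective _ (fun a b h => Prod.ext (L.np_inj _ h).1 (L.np_inj _ h).2),
      Set.ncard_image_of_injective _ (fun x y h => L.far_inj p h), Set.ncard_coe_finset, Set.ncard_coe_finset]
    refine Set.disjoint_left.2 ?_
    rintro _ ⟨⟨i, c⟩, -, rfl⟩ ⟨x, -, e⟩
    exact L.np_ne_far p i c x e.symm
  set A := decide (L.Adj (p : L.Pt) (L.base p 0)) with hAd
  set B := decide (L.Adj (p : L.Pt) (L.np p 0 1)) with hBd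
  set C := decide (L.Adj (p : L.Pt) (L.e (rep 0) • (p : L.Pt))) with hCd
  set D := decide (L.Adj (p : L.Pt) (L.e 1 • (p : L.Pt))) with hDd
  set E' := decide (L.Adj (p : L.Pt) (L.e 3 • (p : L.Pt))) with hEd
  have hR : R = Finset.univ.filter fun ic : Fin 10 × Fin 3 => if ic.2 = 0 then A = true else B = true := by
    refine Finset.filter_congr ?_
    rintro ⟨i, c⟩ -
    by_cases hc : c = 0
    · subst hc
      simp [hAd, L.np_zero, L.adj_base_iff p i]
    · simp [hc, hBd, L.adj_off_iff p i hc]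
  have hS : S = Finset.univ.filter fun x : V => (kind x = 1 ∧ C = true) ∨ (kind x = 2 ∧ D = true) ∨
      (kind x = 3 ∧ E' = true) := by
    refine Finset.filter_congr fun x _ => ?_
    obtain ⟨h1, h2, h3⟩ := L.adj_far_kind p x
    rcases kind_cases x with rfl | h | h | h
    · have : kind (0 : V) = 0 := (kind_zero 0).2 rfl
      simp only [this]
      refine iff_of_false (fun h => h.1 (by rw [L.e_zero, one_smul])) ?_
      simp
    · rw [h1 h]; simp [show kind x = 1 from h, hCd]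
    · rw [h2 h]; simp [h, hDd]
    · rw [h3 h]; simp [h, hEd]
  rw [hR, hS, card_near_filter, card_far_filter] at hcard
  rcases count_cases A B C D E' hcard with ⟨ha, hb⟩ | ⟨ha, hb⟩ | ⟨ha, hb, hc, hd, he⟩
  · exact (L.not_all_near p (of_decide_eq_true ha) (of_decide_eq_true hb)).elim
  · refine (L.not_cliques p fun i c x h => ?_).elim
    have h' := L.adj_smul (L.adj_symm h) (L.e (negV x))
    rw [L.e_np, L.e_smul_smul, L.e_comm_add, (addV_zero x).2.2.1, L.e_zero, one_smul] at h'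
    generalize fn i (negV x) + c = d at h'
    by_cases hd : d = 0
    · rw [hd, L.np_zero, L.adj_base_iff] at h'
      exact (of_decide_eq_false ha) h'
    · rw [L.adj_off_iff p i hd] at h'
      exact (of_decide_eq_false hb) h'
  · constructor
    · intro i c
      by_cases hc0 : c = 0
      · subst hc0
        simp [L.np_zero, L.adj_base_iff p i, of_decide_eq_true ha]
      · simp [hc0, L.adj_off_iff p i hc0, of_decide_eq_false hb]
    · intro x
      have hmem : x ∈ S ↔ L.Adj (p : L.Pt) (L.e x • (p : L.Pt)) := by simp [S]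
      rw [← hmem, hS, Finset.mem_filter]
      simp [hc, hd, he]

theorem adj_np_far (i : Fin 10) (c : Fin 3) (x : V) :
    L.Adj (L.np p i c) (L.e x • (p : L.Pt)) ↔ fn i x = c := by
  rw [← L.adj_smul_iff (L.e (negV x)), L.e_np, L.e_smul_smul, L.e_comm_add (negV x) x, (addV_zero x).2.2.1,
    L.e_zero, one_smul, fn_negV]
  rw [show L.Adj (L.np p i (-fn i x + c)) (p : L.Pt) ↔ L.Adj (p : L.Pt) (L.np p i (-fn i x + c)) from
    ⟨L.adj_symm, L.adj_symm⟩, (L.nb_p p).1, neg_add_eq_zero]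

theorem adj_far_far (x y : V) :
    L.Adj (L.e x • (p : L.Pt)) (L.e y • (p : L.Pt)) ↔ Sing (addV x (negV y)) := by
  rw [← L.adj_smul_iff (L.e (negV y)), L.e_smul_smul, L.e_smul_smul, L.e_comm_add (negV y) y,
    (addV_zero y).2.2.1, L.e_zero, one_smul, L.e_comm_add (negV y) x]
  exact ⟨fun h => ((L.nb_p p).2 _).1 (L.adj_symm h), fun h => L.adj_symm (((L.nb_p p).2 _).2 h)⟩

theorem line_of_adj {i j : Fin 10} {c d : Fin 3} (h : L.Adj (L.np p i c) (L.np p j d)) : i = j := by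
  classical
  by_contra hij
  -- the thirty neighbours are already known
  have hsub : insert L.o (((fun d => L.np p i d) '' (({c}ᶜ : Set (Fin 3)))) ∪
      ((fun x => L.e x • (p : L.Pt)) '' {x | fn i x = c})) ⊆ L.nb (L.np p i c) := by
    rintro r (rfl | ⟨d, hd, rfl⟩ | ⟨x, hx, rfl⟩)
    · exact L.adj_symm (L.adj_o.2 ⟨i, L.np_mem p i c⟩)
    · exact L.adj_same_line (L.np_mem p i c) (L.np_mem p i d) fun e => hd (L.np_inj p e).2.symm
    · exact (L.adj_np_far p i c x).2 hx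
  have heq := Set.eq_of_subset_of_ncard_le hsub (by
    rw [L.card_nb, Set.ncard_insert_of_notMem, Set.ncard_union_eq,
      Set.ncard_image_of_injective _ (fun a b h => (L.np_inj p h).2),
      Set.ncard_image_of_injective _ (fun x y h => L.far_inj p h), ncard_compl_single, ncard_fn_eq]
    · refine Set.disjoint_left.2 ?_
      rintro _ ⟨d, -, rfl⟩ ⟨x, -, e⟩
      exact L.np_ne_far p i d x e.symm
    · rintro (⟨d, -, e⟩ | ⟨x, -, e⟩)
      · exact (L.np_mem p i d).1 e
      · exact (L.far_smul p.2 (L.e_mem_N x)).1 e)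
  have hmem : L.np p j d ∈ L.nb (L.np p i c) := h
  rw [← heq] at hmem
  rcases hmem with e | ⟨d', -, e⟩ | ⟨x, -, e⟩
  · exact (L.np_mem p j d).1 e
  · exact hij (L.np_inj p e).1
  · exact L.np_ne_far p j d x e.symm

theorem adj_np_np (i j : Fin 10) (c d : Fin 3) :
    L.Adj (L.np p i c) (L.np p j d) ↔ i = j ∧ c ≠ d := by
  constructor
  · intro h
    obtain rfl := L.line_of_adj p h
    exact ⟨rfl, fun e => h.1 (by rw [e])⟩
  · rintro ⟨rfl, hcd⟩
    exact L.adj_same_line (L.np_mem p i c) (L.np_mem p i d) fun e => hcd (L.np_inj p e).2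

end Loc

end Cfsg.Agent.U43Rec
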