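import Cfsg.Agent.Lib.U43Rec.Model
import Cfsg.Agent.Lib.SchurMult.U43Group
import Cfsg.Agent.Lib.SchurMult.U43Data

/-!
Finite checks for the automorphism bound of the model graph.
-/

set_option autoImplicit false
set_option maxRecDepth 100000
set_option Elab.async false

namespace Cfsg.Agent.U43Rec

open Cfsg.Agent.PermCert
open Cfsg.Agent.SchurMult (u43Gens)

theorem nonadj_zero : ∀ a : Fin 112, a ≠ 0 → adjM 0 a = false → ∃ x, farPt x = a := by decide +kernel

theorem adj_zero_cases : ∀ a : Fin 112, adjM 0 a = true → ∃ i c, nearPt i c = a := by decide +kernel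

theorem nearPt_inj : ∀ i j : Fin 10, ∀ c d : Fin 3, nearPt i c = nearPt j d → i = j ∧ c = d := by decide +kernel

theorem far_ne_zero : ∀ x : V, farPt x ≠ 0 := by decide +kernel

theorem f3_linear : ∀ g : Fin 3 → Fin 3, (∀ a b, g a = g b → a = b) → g 0 = 0 → ∀ a b, g (a + b) = g a + g b := by
  decide +kernel

theorem fn_zero : ∀ i : Fin 10, fn i 0 = 0 := by decide +kernel

theorem fn_surj : ∀ i : Fin 10, ∀ c : Fin 3, ∃ x : V, fn i x = c := by decide +kernel

theorem smul_eq : ∀ x : V, smulV 2 x = addV x x ∧ smulV 0 x = 0 ∧ smulV 1 x = x := by decide +kernel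

theorem eq_of_sub : ∀ a b : V, addV a (negV b) = 0 → a = b := by decide +kernel

theorem sub_zero' : ∀ y : V, addV y (negV 0) = y := by decide +kernel

theorem near_sep : ∀ i j : Fin 10, ∀ c d : Fin 3, (∀ x : V, fn i x = c ↔ fn j x = d) → i = j ∧ c = d := by
  decide +kernel

/-- The image of a coded line under a generator. -/
def img (k : Fin 2) (i : Fin 112) : Fin 112 := Fin.ofNat 112 (get 7 (u43Gens.getD k (0, 0)).1 i)

theorem gens_valid : ∀ k : Fin 2, validElt 7 112 (u43Gens.getD k (0, 0)) = true ∧
    ∀ i : Fin 112, (img k i : ℕ) = get 7 (u43Gens.getD k (0, 0)).1 i := by decide +kernel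

theorem img_adj : ∀ k : Fin 2, ∀ a b : Fin 112, adjC (img k a) (img k b) = adjC a b := by decide +kernel

theorem sing_card : (Finset.univ.filter fun x : V => kind x = 1).card = 20 := by decide +kernel

end Cfsg.Agent.U43Rec
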