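import Cfsg.Agent.Lib.U43Rec.Model

/-!
Elements of order three of the coded linear group fix at most nine vectors, and at most three of them,
the identity included, share nine fixed vectors with a given one.
-/

set_option autoImplicit false
set_option maxRecDepth 100000
set_option Elab.async false

namespace Cfsg.Agent.U43Rec

/-- The third power is the identity. -/
def cubeId (a : Fin 360) : Bool :=
  (List.finRange 4).all fun k => Nat.beq (app a (app a (app a (sbv k))) : ℕ) (sbv k : ℕ)

/-- The two maps commute. -/
def commId (a b : Fin 360) : Bool :=
  (List.finRange 4).all fun k => Nat.beq (app a (app b (sbv k)) : ℕ) (app b (app a (sbv k)) : ℕ)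

/-- The common fixed vectors. -/
def fixBoth (a b : Fin 360) : ℕ :=
  (List.finRange 81).countP fun x => Nat.beq (app a x : ℕ) (x : ℕ) && Nat.beq (app b x : ℕ) (x : ℕ)

/-- The sharing partners. -/
def partners (a : Fin 360) : List (Fin 360) :=
  (List.finRange 360).filter fun b => cubeId b && commId a b && Nat.ble 9 (fixBoth a b)

theorem order_three_fix : ∀ a : Fin 360, a ≠ 0 → cubeId a = true →
    fixBoth a a ≤ 9 ∧ (partners a).length ≤ 3 := by decide +kernel

end Cfsg.Agent.U43Rec
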