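import Cfsg.Agent.Lib.U43Rec.Main
import Cfsg.Agent.Lib.U43Rec.AutoChecks
import Mathlib.GroupTheory.Sylow

/-!
The action on the model has range `uM`, and automorphisms are induced by automorphisms of the model graph.
-/

set_option autoImplicit false
set_option maxRecDepth 4000
set_option linter.unusedSectionVars false
set_option linter.style.haveILetI false

namespace Cfsg.Agent.U43Rec

open Subgroup

/-- A faithful action of a simple group of order 3265920 on the model graph has range `uM`. -/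
theorem range_eq_uM {G : Type*} [Group G] [Finite G] [IsSimpleGroup G] (hG : Nat.card G = 3265920)
    (ρ : G →* Equiv.Perm (Fin 112)) (hρ : Function.Injective ρ) (hA : ρ.range ≤ autM) : ρ.range = uM := by
  classical
  set H := uM.comap ρ with hH
  have hidx : H.index ≤ 8 := by
    rw [hH, Subgroup.index_comap]
    have h1 : uM.relIndex ρ.range ≤ uM.relIndex autM :=
      Subgroup.relIndex_le_of_le_right hA Subgroup.index_ne_zero_of_finite
    have h3 : Nat.card (uM.subgroupOf autM) * uM.relIndex autM = Nat.card autM :=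
      (uM.subgroupOf autM).card_mul_index
    rw [Nat.card_congr (Subgroup.subgroupOfEquivOfLe uM_le).toEquiv, card_uM] at h3
    have h4 := card_autM
    nlinarith
  have htop : H = ⊤ := by
    by_contra hne
    have hker : H.normalCore = ⊥ := by
      rcases (Subgroup.normalCore_normal H).eq_bot_or_eq_top with h | h
      · exact h
      · exact absurd (eq_top_iff.2 (h.ge.trans H.normalCore_le)) hne
    have hinj : Function.Injective (MulAction.toPermHom G (G ⧸ H)) := by
      rw [← MonoidHom.ker_eq_bot_iff, ← Subgroup.normalCore_eq_ker, hker]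
    have hle := Nat.card_le_card_of_injective _ hinj
    rw [hG, Nat.card_perm] at hle
    have h8 : (Nat.card (G ⧸ H)).factorial ≤ Nat.factorial 8 := Nat.factorial_le hidx
    have : Nat.factorial 8 = 40320 := rfl
    omega
  refine Subgroup.eq_of_le_of_card_ge ?_ (by
    rw [card_uM, ← Nat.card_congr (MonoidHom.ofInjective hρ).toEquiv, hG])
  rintro _ ⟨g, rfl⟩
  exact (show g ∈ H from htop ▸ Subgroup.mem_top g)

namespace Loc

variable {G : Type*} [Group G] [Finite G] (L : Loc G)
include L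

theorem rho_injective (p : L.far) : Function.Injective (L.rho p) := by
  rw [← MonoidHom.ker_eq_bot_iff]
  refine L.eq_bot_of_le (MonoidHom.normal_ker _) fun g hg => L.smul_o_eq.1 ?_
  have := L.theta_rho p g 0
  rw [MonoidHom.mem_ker.1 hg, Equiv.Perm.one_apply, L.theta_zero] at this
  exact this.symm

theorem range_rho (p : L.far) : (L.rho p).range = uM := by
  haveI := L.isSimpleGroup
  exact range_eq_uM L.card_G _ (L.rho_injective p) (L.rho_le p)

/-- An abelian self-centralising subgroup of order 81 of the normaliser is `E`. -/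
theorem eq_E {A P : Subgroup G} (hA : Nat.card A = 81) (hab : ∀ a ∈ A, ∀ b ∈ A, a * b = b * a)
    (h3 : ∀ a ∈ A, a ^ 3 = 1) (hAP : A ≤ P) (hEP : L.E ≤ P) (hPN : P ≤ L.N) (hP : Nat.card P = 729) :
    A = L.E := by
  classical
  by_contra hne
  haveI : Fintype G := Fintype.ofFinite G
  have hact : ∀ n : P, ∃ a, ∀ x, (n : G) * L.e x * (n : G)⁻¹ = L.e (app a x) := fun n => L.act_of_mem (hPN n.2)
  choose α hα using hact
  have huniq : ∀ {n : P} {b : Fin 360}, (∀ x, (n : G) * L.e x * (n : G)⁻¹ = L.e (app b x)) → α n = b :=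
    fun {n b} hb => app_inj_idx fun x => L.e_inj (by rw [← hα, hb])
  have hcomp : ∀ n m : P, ∀ x, app (α (n * m)) x = app (α n) (app (α m) x) := fun n m x => L.e_inj (by
    rw [← hα, ← hα, ← hα, Subgroup.coe_mul]; group)
  -- the fibres of `α` are the cosets of `E`
  have hfib : ∀ n m : P, α n = α m → (n : G)⁻¹ * m ∈ L.E := fun n m h => by
    obtain ⟨y, hy⟩ := L.cent_self ((n : G)⁻¹ * m) fun x => by
      have h1 := (hα m x).trans (congrArg (fun b => L.e (app b x)) h.symm)
      rw [← hα n x] at h1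
      calc (n : G)⁻¹ * m * L.e x = (n : G)⁻¹ * ((m : G) * L.e x * (m : G)⁻¹) * m := by group
        _ = L.e x * ((n : G)⁻¹ * m) := by rw [h1]; group
    exact L.mem_E.2 ⟨y, hy.symm⟩
  have hE0 : ∀ n : P, (n : G) ∈ L.E → α n = 0 := fun n hn => huniq fun x => by
    obtain ⟨y, hy⟩ := L.mem_E.1 hn
    rw [← hy, app_id, L.e_comm, mul_inv_cancel_right]
  -- at most nine images
  let S : Finset (Fin 360) := (Finset.univ : Finset {n : P // (n : G) ∈ A}).image fun n => α n.1
  have h9 : S.card ≤ 9 := by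
    let T : Finset (Fin 360) := (Finset.univ : Finset P).image α
    have hST : S ⊆ T := fun b hb => by
      obtain ⟨n, -, rfl⟩ := Finset.mem_image.1 hb
      exact Finset.mem_image_of_mem _ (Finset.mem_univ _)
    have hge : T.card * 81 ≤ 729 := by
      have hchoice : ∀ b : T, ∃ n : P, α n = b := fun b => by
        obtain ⟨n, -, hn⟩ := Finset.mem_image.1 b.2
        exact ⟨n, hn⟩
      choose s hs using hchoice
      have hinj : Function.Injective (fun w : T × L.E => s w.1 * ⟨(w.2 : G), hEP w.2.2⟩) := by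
        rintro ⟨b, u⟩ ⟨b', u'⟩ h
        have h' : α (s b * ⟨(u : G), hEP u.2⟩) = α (s b' * ⟨(u' : G), hEP u'.2⟩) := congrArg α h
        have hb : ∀ (c : T) (w : L.E), α (s c * ⟨(w : G), hEP w.2⟩) = c := fun c w => by
          rw [← hs c]
          refine huniq fun x => ?_
          rw [← hα (s c) x, Subgroup.coe_mul]
          obtain ⟨y, hy⟩ := L.mem_E.1 w.2
          rw [← hy]
          calc (s c : G) * L.e y * L.e x * ((s c : G) * L.e y)⁻¹ =
                (s c : G) * (L.e y * L.e x * (L.e y)⁻¹) * (s c : G)⁻¹ := by group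
            _ = _ := by rw [L.e_comm y x, mul_inv_cancel_right]
        rw [hb, hb] at h'
        obtain rfl : b = b' := Subtype.ext h'
        exact Prod.ext rfl (Subtype.ext (congrArg Subtype.val (mul_left_cancel h) :))
      have h := Nat.card_le_card_of_injective _ hinj
      rwa [Nat.card_prod, hP, L.card_E, Nat.card_eq_finsetCard] at h
    have := Finset.card_le_card hST
    omega
  -- common fixed vectors
  have hfix : ∀ b ∈ S, ∀ x, L.e x ∈ A → app b x = x := fun b hb x hx => by
    obtain ⟨n, -, rfl⟩ := Finset.mem_image.1 hb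
    exact L.e_inj (by rw [← hα, hab _ n.2 _ hx, mul_inv_cancel_right])
  -- counting
  let J : Finset V := Finset.univ.filter fun x => L.e x ∈ A
  have hcount : 81 ≤ S.card * J.card := by
    have hchoice : ∀ b : S, ∃ n : {n : P // (n : G) ∈ A}, α n.1 = b := fun b => by
      obtain ⟨n, -, hn⟩ := Finset.mem_image.1 b.2
      exact ⟨n, hn⟩
    choose s hs using hchoice
    have hsurj : Function.Surjective (fun w : S × J =>
        (⟨((s w.1).1 : G) * L.e w.2, mul_mem (s w.1).2 (Finset.mem_filter.1 w.2.2).2⟩ : A)) := by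
      rintro ⟨a, ha⟩
      let n : {n : P // (n : G) ∈ A} := ⟨⟨a, hAP ha⟩, ha⟩
      let b : S := ⟨α n.1, Finset.mem_image_of_mem (fun n : {n : P // (n : G) ∈ A} => α n.1) (Finset.mem_univ n)⟩
      obtain ⟨y, hy⟩ := L.mem_E.1 (hfib (s b).1 n.1 (hs b))
      refine ⟨⟨b, y, Finset.mem_filter.2 ⟨Finset.mem_univ _, ?_⟩⟩, Subtype.ext ?_⟩
      · rw [hy]; exact mul_mem (inv_mem (s b).2) ha
      · show ((s b).1 : G) * L.e y = a
        rw [hy, mul_inv_cancel_left]
    have h := Nat.card_le_card_of_surjective _ hsurj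
    rwa [hA, Nat.card_prod, Nat.card_eq_finsetCard, Nat.card_eq_finsetCard] at h
  have hJ81 : J.card ≤ 81 := le_trans (Finset.card_filter_le _ _) (by simp)
  have hfixle : ∀ b ∈ S, ∀ c ∈ S, J.card ≤ fixBoth b c := fun b hb c hc => by
    rw [fixBoth, List.countP_eq_length_filter, ← List.toFinset_card_of_nodup ((List.nodup_finRange 81).filter _)]
    refine Finset.card_le_card fun x hx => ?_
    have hx' := (Finset.mem_filter.1 hx).2
    rw [List.mem_toFinset, List.mem_filter, Bool.and_eq_true, Nat.beq_eq, Nat.beq_eq, hfix b hb x hx', hfix c hc x hx']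
    exact ⟨List.mem_finRange _, rfl, rfl⟩
  have hcube : ∀ b ∈ S, cubeId b = true := fun b hb => by
    obtain ⟨n, -, rfl⟩ := Finset.mem_image.1 hb
    simp only [cubeId, List.all_eq_true, Nat.beq_eq]
    intro k _
    have h1 : app (α (n.1 * n.1 * n.1)) (sbv k) = app (α n.1) (app (α n.1) (app (α n.1) (sbv k))) := by
      rw [hcomp, hcomp]
    have h2 : n.1 * n.1 * n.1 = 1 := Subtype.ext (by
      rw [Subgroup.coe_mul, Subgroup.coe_mul, ← pow_two, ← pow_succ]; exact h3 _ n.2)
    rw [← h1, h2, hE0 1 (one_mem _), app_id]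
  by_cases hex : ∃ b ∈ S, b ≠ 0
  · obtain ⟨b, hb, hb0⟩ := hex
    obtain ⟨hf9, hpart⟩ := order_three_fix b hb0 (hcube b hb)
    have hJ9 : J.card ≤ 9 := le_trans (hfixle b hb b hb) hf9
    have hS9 : 9 ≤ S.card := by
      by_contra hlt
      have : S.card * J.card ≤ 8 * 9 := Nat.mul_le_mul (by omega) hJ9
      omega
    have hJ : 9 ≤ J.card := by
      by_contra hlt
      have : S.card * J.card ≤ 9 * 8 := Nat.mul_le_mul h9 (by omega)
      omega
    have hsub : S ⊆ (partners b).toFinset := fun c hc => by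
      rw [List.mem_toFinset, partners, List.mem_filter, Bool.and_eq_true, Bool.and_eq_true]
      refine ⟨List.mem_finRange _, ⟨hcube c hc, ?_⟩, Nat.ble_eq_true_of_le (le_trans hJ (hfixle b hb c hc))⟩
      obtain ⟨n, -, rfl⟩ := Finset.mem_image.1 hb
      obtain ⟨m, -, rfl⟩ := Finset.mem_image.1 hc
      simp only [commId, List.all_eq_true, Nat.beq_eq]
      intro k _
      rw [← hcomp, ← hcomp, show n.1 * m.1 = m.1 * n.1 from Subtype.ext (hab _ n.2 _ m.2)]
    have h10 := le_trans (Finset.card_le_card hsub) (le_trans (List.toFinset_card_le _) hpart)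
    omega
  · push Not at hex
    refine hne (Subgroup.eq_of_le_of_card_ge ?_ (by rw [hA, L.card_E]))
    intro a ha
    have h0 := hex _ (Finset.mem_image_of_mem (fun n : {n : P // (n : G) ∈ A} => α n.1)
      (Finset.mem_univ (⟨⟨a, hAP ha⟩, ha⟩ : {n : P // (n : G) ∈ A})))
    have := hfib 1 ⟨a, hAP ha⟩ ((hE0 1 (one_mem _)).trans h0.symm)
    simpa using this

/-- An automorphism moves `E` to a conjugate. -/
theorem exists_conj_E (θ : G ≃* G) : ∃ g : G, ∀ x, ∃ y, g * θ (L.e x) * g⁻¹ = L.e y := by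
  classical
  haveI : Fact (Nat.Prime 3) := ⟨Nat.prime_three⟩
  -- a Sylow subgroup between `E` and its normaliser
  obtain ⟨P₀⟩ : Nonempty (Sylow 3 L.N) := inferInstance
  set P : Subgroup G := (P₀ : Subgroup L.N).map L.N.subtype with hPdef
  have hfac : 3265920 = 3 ^ 6 * 4480 := by norm_num
  have hP : Nat.card P = 729 := by
    rw [hPdef, card_map_of_injective L.N.subtype_injective, Sylow.card_eq_multiplicity]
    have : (Nat.card L.N).factorization 3 = 6 := by
      rw [L.card_norm, show 29160 = 3 ^ 6 * 40 by norm_num, Nat.factorization_mul (by norm_num) (by norm_num),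
        Finsupp.add_apply, Nat.Prime.factorization_pow Nat.prime_three, Finsupp.single_eq_same,
        Nat.factorization_eq_zero_of_not_dvd (by norm_num)]
    rw [this]; norm_num
  have hEP : L.E ≤ P := by
    have hnorm : (L.E.subgroupOf L.N).Normal := by
      refine ⟨fun u hu n => ?_⟩
      rw [mem_subgroupOf] at hu ⊢
      obtain ⟨x, hx⟩ := L.mem_E.1 hu
      obtain ⟨a, ha⟩ := L.act_of_mem n.2
      exact L.mem_E.2 ⟨app a x, by rw [← ha, hx]; rfl⟩
    have hp : IsPGroup 3 ↥(L.E.subgroupOf L.N) := by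
      refine IsPGroup.of_card (n := 4) ?_
      rw [Nat.card_congr (subgroupOfEquivOfLe fun u hu => ?_).toEquiv, L.card_E]
      · norm_num
      · obtain ⟨x, rfl⟩ := L.mem_E.1 hu
        exact L.e_mem_N x
    intro u hu
    obtain ⟨x, rfl⟩ := L.mem_E.1 hu
    exact ⟨⟨L.e x, L.e_mem_N x⟩, hp.le_sylow_of_normal P₀ (mem_subgroupOf.2 hu), rfl⟩
  let SP : Sylow 3 G := Sylow.ofCard P (by
    rw [hP, L.card_G, hfac, Nat.factorization_mul (by norm_num) (by norm_num), Finsupp.add_apply,
      Nat.Prime.factorization_pow Nat.prime_three, Finsupp.single_eq_same,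
      Nat.factorization_eq_zero_of_not_dvd (show ¬ 3 ∣ 4480 by norm_num)]
    norm_num)
  let SQ : Sylow 3 G := Sylow.ofCard (P.map θ.toMonoidHom) (by
    rw [card_map_of_injective θ.injective, hP, L.card_G, hfac, Nat.factorization_mul (by norm_num) (by norm_num),
      Finsupp.add_apply, Nat.Prime.factorization_pow Nat.prime_three, Finsupp.single_eq_same,
      Nat.factorization_eq_zero_of_not_dvd (show ¬ 3 ∣ 4480 by norm_num)]
    norm_num)
  obtain ⟨g, hg⟩ := MulAction.exists_smul_eq G SQ SP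
  set A : Subgroup G := (L.E.map θ.toMonoidHom).map (MulAut.conj g).toMonoidHom with hAdef
  have hAe : ∀ a ∈ A, ∃ x, a = g * θ (L.e x) * g⁻¹ := by
    rintro _ ⟨_, ⟨u, hu, rfl⟩, rfl⟩
    obtain ⟨x, rfl⟩ := L.mem_E.1 hu
    exact ⟨x, rfl⟩
  have hAP : A ≤ P := by
    have h1 : A ≤ (P.map θ.toMonoidHom).map (MulAut.conj g).toMonoidHom :=
      Subgroup.map_mono (Subgroup.map_mono hEP)
    have h2 : (P.map θ.toMonoidHom).map (MulAut.conj g).toMonoidHom = P := by
      have := congrArg (fun S : Sylow 3 G => (S : Subgroup G)) hg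
      exact this
    exact h1.trans h2.le
  have hAE := L.eq_E (A := A) (P := P) (by
      rw [hAdef, card_map_of_injective (MulAut.conj g).injective, card_map_of_injective θ.injective, L.card_E])
    (fun a ha b hb => by
      obtain ⟨x, rfl⟩ := hAe a ha
      obtain ⟨y, rfl⟩ := hAe b hb
      rw [← conj_mul', ← conj_mul', ← map_mul, ← map_mul, L.e_comm])
    (fun a ha => by
      obtain ⟨x, rfl⟩ := hAe a ha
      rw [conj_pow, ← map_pow, pow_succ, pow_two, ← L.e_add, ← L.e_add, (addV_zero x).2.2.2.1, L.e_comm_add,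
        (addV_zero x).2.2.1, L.e_zero, map_one, mul_one, mul_inv_cancel])
    hAP hEP (Subgroup.map_subtype_le _) hP
  refine ⟨g, fun x => ?_⟩
  have hm : g * θ (L.e x) * g⁻¹ ∈ A := ⟨_, ⟨_, L.mem_E.2 ⟨x, rfl⟩, rfl⟩, rfl⟩
  rw [hAE] at hm
  obtain ⟨y, hy⟩ := L.mem_E.1 hm
  exact ⟨y, hy.symm⟩

/-- Automorphisms are induced by automorphisms of the model graph. -/
theorem exists_sigma (p : L.far) (θ : G ≃* G) :
    ∃ σ ∈ autM, ∀ g, L.rho p (θ g) = σ * L.rho p g * σ⁻¹ := by
  classical
  obtain ⟨c, hc⟩ := L.exists_conj_E θ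
  let ψ : G ≃* G := θ.trans (MulAut.conj c)
  have hψ : ∀ x, ∃ y, ψ (L.e x) = L.e y := hc
  choose φ hφ using hψ
  have hφi : Function.Injective φ := fun u v h => L.e_inj (ψ.injective (by rw [hφ, hφ, h]))
  have hN : ∀ n ∈ L.N, ψ n ∈ L.N := fun n hn => by
    obtain ⟨a, ha⟩ := L.act_of_mem hn
    obtain ⟨inv, hinv⟩ : ∃ inv : V → V, ∀ x, φ (inv x) = x :=
      (Finite.injective_iff_surjective.1 hφi).hasRightInverse
    refine L.mem_N_of (f := fun x => φ (app a (inv x))) fun x => ?_
    calc ψ n * L.e x * (ψ n)⁻¹ = ψ (n * L.e (inv x) * n⁻¹) := by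
          rw [map_mul, map_mul, map_inv, hφ, hinv]
      _ = _ := by rw [ha, hφ]
  let Φ : L.Pt → L.Pt := fun q => Quotient.liftOn' q (fun g => (QuotientGroup.mk (ψ g) : L.Pt)) fun u v huv => by
    rw [QuotientGroup.eq, ← map_inv, ← map_mul]
    exact hN _ (QuotientGroup.leftRel_apply.1 huv)
  have hΦ : ∀ (k : G) (q : L.Pt), Φ (k • q) = ψ k • Φ q := fun k q => by
    obtain ⟨g, rfl⟩ := QuotientGroup.mk_surjective q
    rw [L.smul_mk]
    show (QuotientGroup.mk (ψ (k * g)) : L.Pt) = ψ k • QuotientGroup.mk (ψ g)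
    rw [L.smul_mk, map_mul]
  have hΦo : Φ L.o = L.o := by
    show (QuotientGroup.mk (ψ 1) : L.Pt) = L.o
    rw [map_one]; rfl
  have hΦb : Function.Bijective Φ := by
    refine Finite.surjective_iff_bijective.1 fun q => ?_
    obtain ⟨g, rfl⟩ := L.exists_smul_o q
    exact ⟨ψ.symm g • L.o, by rw [hΦ, ψ.apply_symm_apply, hΦo]⟩
  have hadj : ∀ q r, L.Adj q r → L.Adj (Φ q) (Φ r) := by
    rintro q r ⟨hne, g, hg, x, hx, h, hh, y, hy⟩
    refine ⟨fun e => hne (hΦb.1 e), ψ g, by rw [← hΦo, ← hΦ, hg], φ x,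
      fun e => hx (hφi (e.trans ?_)), ψ h, ?_, φ y, ?_⟩
    · refine (L.e_inj ?_).symm
      rw [← hφ, L.e_zero, map_one]
    · rw [← hΦo, ← hΦ, hh, ← map_inv, ← hΦ]
    · rw [← hφ, ← hφ, ← hy, map_mul, map_mul, map_inv]
  let T := Equiv.ofBijective _ (L.theta_bij p)
  let σ₀ : Equiv.Perm (Fin 112) := T.trans ((Equiv.ofBijective Φ hΦb).trans T.symm)
  have hT : ∀ a, L.theta p (σ₀ a) = Φ (L.theta p a) := fun a => T.apply_symm_apply _
  have hσ₀ : σ₀ ∈ autM := by
    intro a b
    have hfwd : ∀ a b, adjM a b = true → adjM (σ₀ a) (σ₀ b) = true := fun a b h => by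
      rw [← L.adj_theta p, hT, hT]
      exact hadj _ _ ((L.adj_theta p a b).2 h)
    have hrel : Function.Injective (fun w : Fin 112 × Fin 112 => (σ₀ w.1, σ₀ w.2)) := fun u v h =>
      Prod.ext (σ₀.injective (congrArg Prod.fst h)) (σ₀.injective (congrArg Prod.snd h))
    let E₁ : Finset (Fin 112 × Fin 112) := Finset.univ.filter fun w => adjM w.1 w.2 = true
    have himg : E₁.image (fun w => (σ₀ w.1, σ₀ w.2)) = E₁ := Finset.eq_of_subset_of_card_le
      (fun w hw => by
        obtain ⟨u, hu, rfl⟩ := Finset.mem_image.1 hw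
        exact Finset.mem_filter.2 ⟨Finset.mem_univ _, hfwd _ _ (Finset.mem_filter.1 hu).2⟩)
      (by rw [Finset.card_image_of_injective _ hrel])
    rw [Bool.eq_iff_iff]
    refine ⟨fun h => ?_, hfwd a b⟩
    have hm : (σ₀ a, σ₀ b) ∈ E₁.image (fun w => (σ₀ w.1, σ₀ w.2)) :=
      himg.symm ▸ Finset.mem_filter.2 ⟨Finset.mem_univ _, h⟩
    obtain ⟨u, hu, e⟩ := Finset.mem_image.1 hm
    obtain rfl : u = (a, b) := hrel e
    exact (Finset.mem_filter.1 hu).2
  refine ⟨(L.rho p c)⁻¹ * σ₀, mul_mem (inv_mem (L.rho_le p ⟨c, rfl⟩)) hσ₀, fun g => ?_⟩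
  have key : σ₀ * L.rho p g = L.rho p (ψ g) * σ₀ := Equiv.ext fun a => (L.theta_bij p).1 (by
    rw [Equiv.Perm.mul_apply, Equiv.Perm.mul_apply, hT, L.theta_rho, L.theta_rho, hΦ, hT])
  calc L.rho p (θ g) = (L.rho p c)⁻¹ * L.rho p (ψ g) * L.rho p c := by
        rw [show ψ g = c * θ g * c⁻¹ from rfl, map_mul, map_mul, map_inv]; group
    _ = _ := by rw [show L.rho p (ψ g) = σ₀ * L.rho p g * σ₀⁻¹ by rw [key, mul_inv_cancel_right]]; group

end Loc

end Cfsg.Agent.U43Rec
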