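import Cfsg.Agent.Lib.U43Rec.Model
import Mathlib.Data.Finset.Prod

/-!
Finite facts used to read the local data of `U4(3)` off a group with the given involution centraliser: linear maps
given by the images of a basis, the quadruples of singular vectors, and words for the three generators.
-/

set_option autoImplicit false
set_option maxRecDepth 100000
set_option Elab.async false

namespace Cfsg.Agent.U43Rec.Bridge

/-- A digit of a vector. -/
def dg (x : V) (k : Fin 4) : Fin 3 := Fin.ofNat 3 ((x : ℕ) / 3 ^ (k : ℕ))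

/-- The digits of a vector. -/
def vd (x : V) : Fin 3 × Fin 3 × Fin 3 × Fin 3 := (dg x 0, dg x 1, dg x 2, dg x 3)

/-- The vector with given digits. -/
def mk4 (v : Fin 3 × Fin 3 × Fin 3 × Fin 3) : V :=
  Fin.ofNat 81 ((v.1 : ℕ) + 3 * v.2.1 + 9 * v.2.2.1 + 27 * v.2.2.2)

theorem vd_mk : ∀ v : Fin 3 × Fin 3 × Fin 3 × Fin 3, vd (mk4 v) = v := by decide +kernel

theorem mk_vd : ∀ x : V, mk4 (vd x) = x := by decide +kernel

theorem vd_add : ∀ x y : V, vd (addV x y) = vd x + vd y := by decide +kernel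

theorem vd_basis : vd 0 = 0 ∧ vd 1 = (1, 0, 0, 0) ∧ vd 3 = (0, 1, 0, 0) ∧ vd 9 = (0, 0, 1, 0) ∧
    vd 27 = (0, 0, 0, 1) := by decide +kernel

/-- The linear map with given images of the basis. -/
def linW (w : Fin 4 → V) (x : V) : V :=
  addV (addV (smulV (dg x 0) (w 0)) (smulV (dg x 1) (w 1))) (addV (smulV (dg x 2) (w 2)) (smulV (dg x 3) (w 3)))

theorem basis_spec : ∀ x : V, linW ![1, 3, 9, 27] x = x := by decide +kernel

/-- The map of the central involution. -/
def zMap : V → V := linW ![1, 3, 18, 54]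

/-- The map of the outer involution. -/
def tMap : V → V := linW ![1, 6, 9, 54]

/-- The map of the cycle. -/
def nMap : V → V := linW ![1, 9, 27, 3]

/-- The possible positions of the two cycled vectors in the twisted frame. -/
def caseTab : List (V × V) := [(36, 63), (36, 45), (63, 36), (63, 72), (45, 36), (45, 72), (72, 63), (72, 45)]

/-- The first position. -/
def pOf (c : Fin 8) : V := (caseTab.getD c (0, 0)).1

/-- The second position. -/
def rOf (c : Fin 8) : V := (caseTab.getD c (0, 0)).2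

theorem case_cover : ∀ a b c d : Fin 3, a ≠ 0 → b ≠ 0 → c ≠ 0 → d ≠ 0 →
    mk4 (0, 0, c, d) ≠ mk4 (0, 0, a, b) → mk4 (0, 0, c, d) ≠ negV (mk4 (0, 0, a, b)) →
    ∃ i : Fin 8, pOf i = mk4 (0, 0, a, b) ∧ rOf i = mk4 (0, 0, c, d) := by decide +kernel

/-- The images of the last two basis vectors in the twisted frame. -/
def imTab : List (V × V) := [(47, 46), (64, 65), (74, 38), (37, 73), (38, 74), (73, 37), (65, 64), (46, 47)]

/-- The map of the cycle of the twisted frame. -/
def mMap (c : Fin 8) : V → V := linW ![pOf c, 3, (imTab.getD c (0, 0)).1, (imTab.getD c (0, 0)).2]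

theorem m_spec : ∀ c : Fin 8, ∀ k : Fin 2, ∃ α β : Fin 3,
    comb (pOf c) (rOf c) α β = (if k = 0 then 9 else 27) ∧
    comb (rOf c) 1 α β = (if k = 0 then (imTab.getD c (0, 0)).1 else (imTab.getD c (0, 0)).2) := by decide +kernel

/-- Words for the three generators. -/
def wordTab : List (List (List (Fin 4))) :=
  [[[3, 1, 2, 1, 1, 0], [1, 3, 0, 1, 0, 0], [1, 1, 2, 1]],
   [[1, 3, 1, 0], [0, 1, 1, 0, 1, 3], [1, 1, 2, 1]],
   [[1, 3, 2, 1, 0], [0, 1, 2, 0, 0, 1], [1, 2, 1, 1]],
   [[2, 1, 3, 1, 0], [3, 0, 1, 3, 0, 1], [1, 2, 1, 1]],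
   [[2, 1, 3, 1, 0], [0, 1, 2, 0, 1, 2], [1, 2, 1, 1]],
   [[1, 3, 2, 1, 0], [0, 1, 0, 1], [1, 2, 1, 1]],
   [[1, 3, 1, 0], [2, 1, 0, 1, 0, 0], [1, 1, 2, 1]],
   [[3, 1, 2, 1, 1, 0], [1, 0, 0, 1, 0, 0], [1, 1, 2, 1]]]

/-- The four maps. -/
def letter (c : Fin 8) (l : Fin 4) : V → V :=
  if l = 0 then nMap else if l = 1 then mMap c else if l = 2 then zMap else tMap

/-- The map of a word. -/
def wMap (c : Fin 8) (w : List (Fin 4)) (x : V) : V := w.foldr (fun l y => letter c l y) x

/-- The word of a generator. -/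
def wordOf (c : Fin 8) (k : Fin 3) : List (Fin 4) := ((wordTab.getD c []).getD k [])

theorem word_spec : ∀ c : Fin 8, ∀ k : Fin 3, ∀ x : V, wMap c (wordOf c k) x = app (gidx k) x := by decide +kernel

theorem app_add : ∀ k : Fin 3, ∀ x y : V, app (gidx k) (addV x y) = addV (app (gidx k) x) (app (gidx k) y) := by
  decide +kernel

/-- The singular vectors fixed by the central involution. -/
def base4 : Finset V := {4, 5, 7, 8}

theorem base4_spec : negV 4 = 8 ∧ negV 5 = 7 ∧ Sing 4 ∧ Sing 5 ∧ (5 : V) ≠ 4 ∧ (5 : V) ≠ negV 4 ∧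
    (rep 0 = 4) ∧ addV 1 3 = 4 := by decide +kernel

/-- The four singular vectors on a pair of lines. -/
def quad (p : Fin 10 × Fin 10) : Finset V := {rep p.1, negV (rep p.1), rep p.2, negV (rep p.2)}

theorem quad_count : (((Finset.univ : Finset (Fin 10 × Fin 10)).filter fun p => p.1 ≠ p.2).image quad).card ≤ 45 := by
  decide +kernel

/-- The plane inverted by the central involution, without zero. -/
def InvP (x : V) : Prop := Nsing x ∧ ∀ p ∈ ([4, 5, 7, 8] : List V), ¬ Sing (addV x p)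

instance (x : V) : Decidable (InvP x) := by unfold InvP; infer_instance

theorem plane_gen : ∀ i j : Fin 3, ∃ a ∈ ([0, 4, 5, 7, 8] : List V), ∃ b ∈ ([0, 4, 5, 7, 8] : List V),
    mk4 (i, j, 0, 0) = addV a b := by decide +kernel

theorem split : ∀ i j k l : Fin 3, addV (mk4 (i, j, 0, 0)) (mk4 (0, 0, k, l)) = mk4 (i, j, k, l) ∧
    zMap (mk4 (i, j, k, l)) = addV (mk4 (i, j, 0, 0)) (negV (mk4 (0, 0, k, l))) ∧
    (mk4 (0, 0, k, l) = 0 ∨ InvP (mk4 (0, 0, k, l))) := by decide +kernel

theorem invP_iff : ∀ x : V, InvP x → zMap x = negV x := by decide +kernel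

theorem z_fixed : ∀ x : V, x = 0 ∨ x ∈ base4 → zMap x = x := by decide +kernel

theorem z_neg_count : (Finset.univ.filter fun x : V => addV x (zMap x) = 0).card = 9 := by decide +kernel

theorem addV_comm' : ∀ x y : V, addV x y = addV y x := by decide +kernel

theorem z_add : ∀ x y : V, zMap (addV x y) = addV (zMap x) (zMap y) := by decide +kernel

theorem zero_or_four : ∀ x : V, x ∈ ([0, 4, 5, 7, 8] : List V) → x = 0 ∨ x ∈ base4 := by decide +kernel

theorem four_zero : ∀ x : V, x = 0 ∨ x ∈ base4 → x ∈ ([0, 4, 5, 7, 8] : List V) := by decide +kernel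

theorem kind_one : kind 1 = 2 ∧ kind 3 = 3 ∧ Sing (rep 0) := by decide +kernel

end Cfsg.Agent.U43Rec.Bridge
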