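import Cfsg.Agent.Lib.U43Rec.Suborbits
import Cfsg.Agent.Lib.U43Rec.AdjChecks

/-!
The complement fixing a far point, and the canonical near point on each line.
-/

set_option autoImplicit false
set_option linter.unusedSectionVars false

namespace Cfsg.Agent.U43Rec

open Subgroup

namespace Loc

variable {G : Type*} [Group G] [Finite G] (L : Loc G)
include L

theorem exists_fix (p : L.far) (a : Fin 360) :
    ∃ n : G, n ∈ L.N ∧ n • (p : L.Pt) = p ∧ ∀ x, n * L.e x * n⁻¹ = L.e (app a x) := by
  obtain ⟨u, hu⟩ := L.far_trans (L.far_smul p.2 (L.nl_mem a)) p.2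
  refine ⟨L.e u * L.nl a, mul_mem (L.e_mem_N u) (L.nl_mem a), by rw [mul_smul]; exact hu, fun x => ?_⟩
  calc _ = L.e u * (L.nl a * L.e x * (L.nl a)⁻¹) * (L.e u)⁻¹ := by group
    _ = _ := by rw [L.nl_spec, L.e_comm, mul_inv_cancel_right]

variable (p : L.far)

/-- The lift fixing the far point. -/
noncomputable def cl (a : Fin 360) : G := (L.exists_fix p a).choose

theorem cl_mem (a : Fin 360) : L.cl p a ∈ L.N := (L.exists_fix p a).choose_spec.1

theorem cl_fix (a : Fin 360) : L.cl p a • (p : L.Pt) = p := (L.exists_fix p a).choose_spec.2.1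

theorem cl_act (a : Fin 360) (x : V) : L.cl p a * L.e x * (L.cl p a)⁻¹ = L.e (app a x) :=
  (L.exists_fix p a).choose_spec.2.2 x

theorem fix_eq_one {n : G} (hp : n • (p : L.Pt) = p) (h : ∀ x, n * L.e x * n⁻¹ = L.e x) : n = 1 := by
  obtain ⟨w, rfl⟩ := L.cent_self n fun x => mul_inv_eq_iff_eq_mul.1 (h x)
  have hw : w ∈ L.J (p : L.Pt) := L.mem_J.2 hp
  rw [L.J_far p.2, Finset.mem_singleton] at hw
  rw [hw, L.e_zero]

theorem fix_ext {n m : G} (hn : n • (p : L.Pt) = p) (hm : m • (p : L.Pt) = p)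
    (h : ∀ x, n * L.e x * n⁻¹ = m * L.e x * m⁻¹) : n = m := by
  refine (eq_of_inv_mul_eq_one ?_).symm
  refine L.fix_eq_one p (by rw [mul_smul, hn, inv_smul_eq_iff, hm]) fun x => ?_
  calc m⁻¹ * n * L.e x * (m⁻¹ * n)⁻¹ = m⁻¹ * (n * L.e x * n⁻¹) * m := by group
    _ = _ := by rw [h]; group

theorem cl_smul_e (a : Fin 360) (x : V) (q : L.Pt) :
    L.cl p a • L.e x • q = L.e (app a x) • L.cl p a • q := by
  rw [← mul_smul, ← mul_smul, ← L.cl_act p a x, inv_mul_cancel_right]

theorem cl_line {a : Fin 360} {i j : Fin 10} (ha : app a (rep i) = rep j ∨ app a (rep i) = negV (rep j))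
    {q : L.Pt} (hq : q ∈ L.line i) : L.cl p a • q ∈ L.line j := by
  refine ⟨L.n_smul_ne (L.cl_mem p a) hq.1, ?_⟩
  rcases ha with ha | ha
  · have := L.meets_smul (L.cl_act p a) hq.2
    rwa [ha] at this
  · have := L.meets_smul (L.cl_act p a) (L.meets_neg hq.2)
    rwa [line_swap i j a ha] at this

theorem line_eq_iff {i : Fin 10} {q : L.Pt} (hq : q ∈ L.line i) (x y : V) :
    L.e x • q = L.e y • q ↔ fn i x = fn i y := by
  have h : L.e x • q = L.e y • q ↔ addV (negV y) x ∈ L.J q := by
    rw [L.mem_J, ← L.e_smul_smul, L.e_neg, inv_smul_eq_iff]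
  rw [h, L.J_line hq, Finset.mem_filter, fn_add, fn_negV]
  simp only [Finset.mem_univ, true_and]
  constructor
  · intro e
    have := congrArg (fun u => fn i y + u) e
    simpa [← add_assoc] using this
  · intro e
    rw [e]; simp

theorem exists_base (i : Fin 10) : ∃ q, q ∈ L.line i ∧ L.cl p (turnW i) • q = q := by
  obtain ⟨q, hq⟩ := Set.nonempty_of_ncard_ne_zero (s := L.line i) (by rw [L.card_line]; norm_num)
  obtain ⟨w, hw⟩ := L.line_trans hq (L.cl_line p (Or.inr (turn_spec i).1) hq)
  refine ⟨L.e (negV w) • q, L.line_smul hq _, ?_⟩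
  rw [L.cl_smul_e, ← hw, L.e_smul_smul, L.line_eq_iff hq, fn_add, (turn_spec i).2, fn_negV]
  exact (f3_facts _).2.1

/-- The canonical near point of a line. -/
noncomputable def base (i : Fin 10) : L.Pt := (L.exists_base p i).choose

theorem base_mem (i : Fin 10) : L.base p i ∈ L.line i := (L.exists_base p i).choose_spec.1

theorem base_turn (i : Fin 10) : L.cl p (turnW i) • L.base p i = L.base p i :=
  (L.exists_base p i).choose_spec.2

theorem base_stab {i : Fin 10} {b : Fin 360} (hb : app b (rep i) = rep i) :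
    L.cl p b • L.base p i = L.base p i := by
  obtain ⟨k, rfl⟩ := stab_all i b hb
  obtain ⟨w, hw⟩ := L.line_trans (L.base_mem p i) (L.cl_line p (Or.inl hb) (L.base_mem p i))
  have key : fn i w = 0 := by
    apply (f3_facts _).1
    set B := L.cl p (stabW i k)
    set T := L.cl p (turnW i)
    set q := L.base p i with hq
    have hTq : T • q = q := L.base_turn p i
    have hm := L.base_mem p i
    rcases stab_rel i k with h | h
    · have h1 : B * B = 1 := L.fix_eq_one p (by rw [mul_smul, L.cl_fix, L.cl_fix]) fun x => by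
        calc B * B * L.e x * (B * B)⁻¹ = B * (B * L.e x * B⁻¹) * B⁻¹ := by group
          _ = _ := by rw [L.cl_act, L.cl_act, h]
      have h2 : L.e (addV (app (stabW i k) w) w) • q = L.e 0 • q := by
        rw [← L.e_smul_smul, hw, ← L.cl_smul_e, hw, ← mul_smul, h1, one_smul, L.e_zero, one_smul]
      rw [L.line_eq_iff hm, fn_add, (stab_fix i k).2, fn_zero'] at h2
      exact h2
    · have h1 : B * (T * T) * B = T * T := L.fix_ext p (by simp only [mul_smul, L.cl_fix, B, T])
        (by simp only [mul_smul, L.cl_fix, T]) fun x => by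
          calc B * (T * T) * B * L.e x * (B * (T * T) * B)⁻¹ =
              B * (T * (T * (B * L.e x * B⁻¹) * T⁻¹) * T⁻¹) * B⁻¹ := by group
            _ = L.e (app (turnW i) (app (turnW i) x)) := by
              rw [L.cl_act, L.cl_act, L.cl_act, L.cl_act, h]
            _ = T * (T * L.e x * T⁻¹) * T⁻¹ := by rw [L.cl_act, L.cl_act]
            _ = _ := by group
      have h2 : L.e (addV (app (stabW i k) (app (turnW i) (app (turnW i) w))) w) • q = L.e 0 • q := by
        rw [← L.e_smul_smul, hw, ← L.cl_smul_e,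
          show L.e (app (turnW i) (app (turnW i) w)) • q = T • T • L.e w • q by
            rw [L.cl_smul_e, L.cl_smul_e, hTq, hTq],
          hw, ← mul_smul, ← mul_smul, ← mul_smul]
        rw [show L.cl p (stabW i k) * T * T * B = B * (T * T) * B by simp only [B]; group, h1, mul_smul, hTq, hTq, L.e_zero, one_smul]
      rw [L.line_eq_iff hm, fn_add, (stab_fix i k).2, (turn_spec i).2, (turn_spec i).2, neg_neg, fn_zero'] at h2
      exact h2
  rw [← hw]
  have h0 := (L.line_eq_iff (L.base_mem p i) w 0).2 (by rw [key, fn_zero'])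
  rwa [L.e_zero, one_smul] at h0

theorem base_map {a : Fin 360} {i j : Fin 10} (ha : app a (rep i) = rep j ∨ app a (rep i) = negV (rep j)) :
    L.cl p a • L.base p i = L.base p j := by
  set q := L.cl p a • L.base p i with hq
  have hmem : q ∈ L.line j := L.cl_line p ha (L.base_mem p i)
  -- the turn of the image fixes `q`
  have hfix : L.cl p (turnW j) • q = q := by
    set k := (L.cl p a)⁻¹ * L.cl p (turnW j) * L.cl p a
    have hkp : k • (p : L.Pt) = p := by
      simp only [k, mul_smul, L.cl_fix, inv_smul_eq_iff]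
    have hkN : k ∈ L.N := mul_mem (mul_mem (inv_mem (L.cl_mem p a)) (L.cl_mem p _)) (L.cl_mem p a)
    obtain ⟨d, hd⟩ := L.act_of_mem (mul_mem hkN (L.cl_mem p (turnW i)))
    have hrep : app d (rep i) = rep i := by
      apply L.app_injective a
      apply L.e_inj
      rw [← L.cl_act p a (app d (rep i)), ← hd]
      calc L.cl p a * (k * L.cl p (turnW i) * L.e (rep i) * (k * L.cl p (turnW i))⁻¹) * (L.cl p a)⁻¹
          = L.cl p (turnW j) * (L.cl p a * (L.cl p (turnW i) * L.e (rep i) * (L.cl p (turnW i))⁻¹) *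
            (L.cl p a)⁻¹) * (L.cl p (turnW j))⁻¹ := by simp only [k]; group
        _ = L.e (app a (rep i)) := by
          rw [L.cl_act, (turn_spec i).1, L.cl_act, L.app_neg]
          rcases ha with ha | ha <;> rw [ha]
          · rw [L.cl_act, L.app_neg, (turn_spec j).1, (addV_zero (rep j)).2.2.2.2]
          · rw [(addV_zero (rep j)).2.2.2.2, L.cl_act, (turn_spec j).1]
    have heq : k * L.cl p (turnW i) = L.cl p d :=
      L.fix_ext p (by rw [mul_smul, L.cl_fix, hkp]) (L.cl_fix p d) fun x => by rw [hd, L.cl_act]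
    have hk : k • L.base p i = L.base p i := by
      conv_lhs => rw [← L.base_turn p i]
      rw [← mul_smul, heq, L.base_stab p hrep]
    calc L.cl p (turnW j) • q = L.cl p a • k • L.base p i := by
          simp only [q, k, mul_smul, smul_inv_smul]
      _ = q := by rw [hk]
  obtain ⟨x, hx⟩ := L.line_trans (L.base_mem p j) hmem
  rw [← hx] at hfix ⊢
  rw [L.cl_smul_e, L.base_turn, L.line_eq_iff (L.base_mem p j), (turn_spec j).2] at hfix
  have h0 := (L.line_eq_iff (L.base_mem p j) x 0).2 (by rw [fn_zero']; exact (f3_facts _).2.2 hfix.symm)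
  rwa [L.e_zero, one_smul] at h0

/-- A near point by line and value. -/
noncomputable def np (i : Fin 10) (c : Fin 3) : L.Pt := L.e (fn_onto i c).choose • L.base p i

theorem np_mem (i : Fin 10) (c : Fin 3) : L.np p i c ∈ L.line i := L.line_smul (L.base_mem p i) _

theorem e_base (i : Fin 10) (x : V) : L.e x • L.base p i = L.np p i (fn i x) :=
  (L.line_eq_iff (L.base_mem p i) _ _).2 (fn_onto i (fn i x)).choose_spec.symm

theorem np_zero (i : Fin 10) : L.np p i 0 = L.base p i := by
  rw [← fn_zero' i, ← L.e_base, L.e_zero, one_smul]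

theorem e_np (i : Fin 10) (c : Fin 3) (x : V) : L.e x • L.np p i c = L.np p i (fn i x + c) := by
  rw [np, L.e_smul_smul, L.e_base, fn_add, (fn_onto i c).choose_spec]

theorem np_inj {i j : Fin 10} {c d : Fin 3} (h : L.np p i c = L.np p j d) : i = j ∧ c = d := by
  have hij : i = j := L.line_unique (L.np_mem p i c).1 (L.np_mem p i c).2 (h ▸ (L.np_mem p j d).2)
  subst hij
  refine ⟨rfl, ?_⟩
  have := (L.line_eq_iff (L.base_mem p i) _ _).1 h
  rwa [(fn_onto i c).choose_spec, (fn_onto i d).choose_spec] at this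

theorem cases_np (q : L.Pt) : q = L.o ∨ (∃ i c, q = L.np p i c) ∨ ∃ x, q = L.e x • (p : L.Pt) := by
  rcases L.cases_pt q with h | ⟨i, h⟩ | h
  · exact Or.inl h
  · obtain ⟨x, rfl⟩ := L.line_trans (L.base_mem p i) h
    exact Or.inr (Or.inl ⟨i, fn i x, L.e_base p i x⟩)
  · obtain ⟨x, rfl⟩ := L.far_trans p.2 h
    exact Or.inr (Or.inr ⟨x, rfl⟩)

theorem np_ne_far (i : Fin 10) (c : Fin 3) (x : V) : L.np p i c ≠ L.e x • (p : L.Pt) := fun h =>
  (L.far_smul p.2 (L.e_mem_N x)).2 i (h ▸ L.np_mem p i c)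

theorem far_inj {x y : V} (h : L.e x • (p : L.Pt) = L.e y • (p : L.Pt)) : x = y := by
  have hm : addV (negV y) x ∈ L.J (p : L.Pt) := L.mem_J.2 (by
    rw [← L.e_smul_smul, h, L.e_smul_smul, L.e_comm_add, (addV_zero y).2.2.1, L.e_zero, one_smul])
  rw [L.J_far p.2, Finset.mem_singleton] at hm
  refine L.e_inj (eq_of_inv_mul_eq_one ?_).symm
  rw [← L.e_neg, ← L.e_add, hm, L.e_zero]

theorem cl_np (a : Fin 360) {i j : Fin 10} (ha : app a (rep i) = rep j ∨ app a (rep i) = negV (rep j)) (x : V) :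
    L.cl p a • L.np p i (fn i x) = L.np p j (fn j (app a x)) := by
  rw [← L.e_base, L.cl_smul_e, L.base_map p ha, L.e_base]

end Loc

end Cfsg.Agent.U43Rec
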