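import Cfsg.Agent.Lib.U43Rec.Model

/-!
Finite checks on the stabilisers of vectors in the coded linear group.
-/

set_option autoImplicit false
set_option maxRecDepth 100000
set_option Elab.async false

namespace Cfsg.Agent.U43Rec

/-- A key determining a linear map. -/
def aKey (a : Fin 360) : ℕ :=
  (app a 1 : ℕ) + 81 * ((app a 3 : ℕ) + 81 * ((app a 9 : ℕ) + 81 * (app a 27 : ℕ)))

theorem aKey_nodup : ((List.finRange 360).map aKey).Nodup := by decide +kernel

theorem stab_count : ∀ x : V, (List.finRange 360).countP (fun a => decide (app a x = x)) =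
    if kind x = 0 then 360 else if kind x = 1 then 18 else 12 := by decide +kernel

theorem stab_noncomm : ∀ x : Fin 2, ∀ a : Fin 360, let v : V := if x = 0 then 1 else 3
    app a v = v → a ≠ 0 → (∀ y : V, app a (app a (app a y)) = y) →
      ∃ b : Fin 360, app b v = v ∧ (∀ y : V, app b (app b y) = y) ∧
        ∃ y : V, app a (app b (app a (app b y))) ≠ app b (app a (app b (app a y))) := by decide +kernel

theorem card_kerFn : ∀ i : Fin 10, (Finset.univ.filter fun x : V => fn i x = 0).card = 27 := by decide +kernel

theorem comb_self : ∀ x : V, ∀ i j : Fin 3, comb x 0 i j = smulV i x ∧ smulV i x ∈ [0, x, negV x] := by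
  decide +kernel

theorem line_set : ∀ x : V, x ≠ 0 → ([0, x, negV x] : List V).Nodup := by decide +kernel

theorem span_ne : ∀ s : Fin 171, ∀ z : V, z ≠ 0 → (spanMask s).testBit z = true → spanMask s ≠ 1 := by
  decide +kernel

end Cfsg.Agent.U43Rec
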