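import Cfsg.Agent.Lib.U43Rec.Adjacency
import Cfsg.Agent.Lib.U43Rec.Aut

/-!
A group with the local data of `U4(3)` is simple and isomorphic to `PSU(4,3)`.
-/

set_option autoImplicit false
set_option linter.unusedSectionVars false
set_option linter.style.haveILetI false
set_option maxRecDepth 10000

namespace Cfsg.Agent.U43Rec

open Subgroup

namespace Loc

variable {G : Type*} [Group G] [Finite G] (L : Loc G)
include L

variable (p : L.far)

/-- The labelling of the points by the model. -/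
noncomputable def theta (a : Fin 112) : L.Pt :=
  if a = 0 then L.o
  else if _h : (a : ℕ) ≤ 30 then L.np p (Fin.ofNat 10 (((a : ℕ) - 1) / 3)) (Fin.ofNat 3 (((a : ℕ) - 1) % 3))
  else L.e (Fin.ofNat 81 ((a : ℕ) - 31)) • (p : L.Pt)

theorem theta_zero : L.theta p 0 = L.o := by simp [theta]

theorem theta_near (i : Fin 10) (c : Fin 3) : L.theta p (nearPt i c) = L.np p i c := by
  obtain ⟨h1, h2, h3, h4⟩ := near_decode i c
  rw [theta, if_neg h1, dif_pos h2, h3, h4]

theorem theta_far (x : V) : L.theta p (farPt x) = L.e x • (p : L.Pt) := by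
  obtain ⟨h1, h2, h3⟩ := far_decode x
  rw [theta, if_neg h1, dif_neg h2, h3]

theorem theta_bij : Function.Bijective (L.theta p) := by
  have hs : Function.Surjective (L.theta p) := fun q => by
    rcases L.cases_np p q with rfl | ⟨i, c, rfl⟩ | ⟨x, rfl⟩
    exacts [⟨_, L.theta_zero p⟩, ⟨_, L.theta_near p i c⟩, ⟨_, L.theta_far p x⟩]
  exact (Nat.bijective_iff_surjective_and_card _).2 ⟨hs, by rw [Nat.card_fin, L.card_pt]⟩

theorem adj_theta (a b : Fin 112) : L.Adj (L.theta p a) (L.theta p b) ↔ adjM a b = true := by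
  have sym : ∀ {q r : L.Pt}, L.Adj q r ↔ L.Adj r q := ⟨L.adj_symm, L.adj_symm⟩
  rcases pt_cases a with rfl | ⟨i, c, rfl⟩ | ⟨x, rfl⟩ <;> rcases pt_cases b with rfl | ⟨j, d, rfl⟩ | ⟨y, rfl⟩ <;>
    simp only [theta_zero, theta_near, theta_far]
  · exact iff_of_false (fun h => h.1 rfl) (by rw [(adj_irrefl_symm 0 0).2]; simp)
  · exact iff_of_true (L.adj_o.2 ⟨j, L.np_mem p j d⟩) (adj_zero j d)
  · refine iff_of_false (fun h => ?_) (by rw [adj_zero_far]; simp)
    obtain ⟨i, hi⟩ := L.adj_o.1 h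
    exact (L.far_smul p.2 (L.e_mem_N y)).2 i hi
  · rw [(adj_irrefl_symm _ _).1]
    exact iff_of_true (L.adj_symm (L.adj_o.2 ⟨i, L.np_mem p i c⟩)) (adj_zero i c)
  · rw [L.adj_np_np p, adj_near]
  · rw [L.adj_np_far p, adj_near_far]
  · rw [(adj_irrefl_symm _ _).1]
    refine iff_of_false (fun h => ?_) (by rw [adj_zero_far]; simp)
    obtain ⟨i, hi⟩ := L.adj_o.1 (L.adj_symm h)
    exact (L.far_smul p.2 (L.e_mem_N x)).2 i hi
  · rw [sym, L.adj_np_far p, (adj_irrefl_symm _ _).1, adj_near_far]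
  · rw [L.adj_far_far p, adj_far]

/-- The action on the model. -/
noncomputable def rho : G →* Equiv.Perm (Fin 112) :=
  (Equiv.ofBijective _ (L.theta_bij p)).symm.permCongrHom.toMonoidHom.comp (MulAction.toPermHom G L.Pt)

theorem theta_rho (g : G) (a : Fin 112) : L.theta p (L.rho p g a) = g • L.theta p a := by
  simp [rho, Equiv.permCongrHom, Equiv.permCongr_apply, Equiv.ofBijective_apply_symm_apply]

theorem rho_le : (L.rho p).range ≤ autM := by
  rintro _ ⟨g, rfl⟩ a b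
  rw [Bool.eq_iff_iff, ← L.adj_theta p, ← L.adj_theta p, L.theta_rho, L.theta_rho, L.adj_smul_iff]

/-! ### Simplicity -/

/-- A subgroup normalised by the normaliser meets `E` trivially or contains it. -/
theorem E_inter {K : Subgroup G} (hK : K.Normal) : (∀ x, L.e x ∈ K → x = 0) ∨ ∀ x, L.e x ∈ K := by
  by_contra hc
  push Not at hc
  obtain ⟨⟨x, hx, hx0⟩, y, hy⟩ := hc
  have hconj : ∀ a, ∀ u, L.e u ∈ K → L.e (app a u) ∈ K := fun a u hu => by
    rw [← L.nl_spec]; exact hK.conj_mem _ hu _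
  obtain ⟨v, hv, hvs⟩ : ∃ v, L.e v ∈ K ∧ Sing v := by
    rcases irr x hx0 with h | h
    · exact ⟨x, hx, h⟩
    · exact ⟨_, by rw [L.e_add]; exact mul_mem hx (hconj _ x hx), h⟩
  have hsing : ∀ w, Sing w → L.e w ∈ K := by
    intro w hw
    obtain ⟨i, hi⟩ := rep_cover v hvs
    have hr : L.e (rep i) ∈ K := by
      rcases hi with rfl | rfl
      · exact hv
      · rw [L.e_neg] at hv; exact inv_mem_iff.1 hv
    obtain ⟨a, ha⟩ := L.exists_app_rep i hw
    exact ha ▸ hconj a _ hr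
  have hs : ∀ (n : ℕ) u, L.e u ∈ K → L.e (smulV n u) ∈ K := by
    intro n u hu
    rcases n with _ | _ | n
    · simp [smulV, L.e_zero]
    · simpa [smulV] using hu
    · simpa [smulV, L.e_neg] using hu
  apply hy
  rw [← lin_sbv y]
  simp only [lin, L.e_add]
  exact mul_mem (mul_mem (hs _ _ (hsing _ (sbv_sing 0))) (hs _ _ (hsing _ (sbv_sing 1))))
    (mul_mem (hs _ _ (hsing _ (sbv_sing 2))) (hs _ _ (hsing _ (sbv_sing 3))))

theorem eq_bot_of_le {K : Subgroup G} (hK : K.Normal) (h : K ≤ L.N) : K = ⊥ := by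
  obtain ⟨q, hq⟩ := L.exists_far
  obtain ⟨g, hg⟩ := L.exists_smul_o q
  have hfix : ∀ k ∈ K, k • q = q := fun k hk => by
    rw [← hg, ← mul_smul, show k * g = g * (g⁻¹ * k * g) by group, mul_smul]
    congr 1
    exact L.smul_o_eq.2 (h (by simpa using hK.conj_mem k hk g⁻¹))
  have h0 : ∀ x, L.e x ∈ K → x = 0 := fun x hx => by
    have : x ∈ L.J q := L.mem_J.2 (hfix _ hx)
    rwa [L.J_far hq, Finset.mem_singleton] at this
  rw [eq_bot_iff]
  intro k hk
  obtain ⟨a, ha⟩ := L.act_of_mem (h hk)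
  obtain ⟨w, rfl⟩ := L.cent_self k fun x => by
    have hm : L.e (addV (app a x) (negV x)) ∈ K := by
      rw [L.e_add, L.e_neg, ← ha, show k * L.e x * k⁻¹ * (L.e x)⁻¹ = k * (L.e x * k⁻¹ * (L.e x)⁻¹) by group]
      exact mul_mem hk (hK.conj_mem _ (inv_mem hk) _)
    have := congrArg L.e (h0 _ hm)
    rw [L.e_add, L.e_neg, ← ha, L.e_zero, mul_inv_eq_one] at this
    exact mul_inv_eq_iff_eq_mul.1 this
  rw [Subgroup.mem_bot, h0 w hk, L.e_zero]

theorem orbit_eq {K : Subgroup G} (hK : K.Normal) (h : ¬ K ≤ L.N) :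
    MulAction.orbit K L.o = (Set.univ : Set L.Pt) := by
  obtain ⟨p, hp⟩ := L.exists_far
  set O := MulAction.orbit K L.o
  have hinv : ∀ n ∈ L.N, ∀ r ∈ O, n • r ∈ O := by
    rintro n hn _ ⟨⟨k, hk⟩, rfl⟩
    refine ⟨⟨n * k * n⁻¹, hK.conj_mem k hk n⟩, ?_⟩
    show (n * k * n⁻¹) • L.o = n • k • L.o
    rw [mul_smul, mul_smul, L.smul_o_eq.2 (inv_mem hn)]
  have hnear : ∀ i c j d, L.np ⟨p, hp⟩ i c ∈ O → L.np ⟨p, hp⟩ j d ∈ O := by
    intro i c j d hO
    have h0 : L.np ⟨p, hp⟩ i (fn i 0) ∈ O := by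
      obtain ⟨y, hy⟩ := fn_onto i (-c)
      have := hinv _ (L.e_mem_N y) _ hO
      rwa [L.e_np, hy, neg_add_cancel, ← fn_zero' i] at this
    obtain ⟨a, ha⟩ := L.exists_app_rep i (rep_facts j).1
    have h1 := hinv _ (L.cl_mem ⟨p, hp⟩ a) _ h0
    rw [L.cl_np _ a (Or.inl ha), L.app_zero, fn_zero'] at h1
    obtain ⟨y, hy⟩ := fn_onto j d
    have := hinv _ (L.e_mem_N y) _ h1
    rwa [L.e_np, hy, add_zero] at this
  have hfar : ∀ x y, L.e x • p ∈ O → L.e y • p ∈ O := fun x y hO => by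
    have := hinv _ (L.e_mem_N (addV y (negV x))) _ hO
    rwa [L.e_smul_smul, L.e_comm_add, L.add_neg_cancel'] at this
  have hdvd : O.ncard ∣ 112 := by
    have h1 := (MulAction.stabilizer K L.o).index_mul_card
    rw [MulAction.index_stabilizer] at h1
    -- all orbits have the size of the first
    have h2 : ∀ r : L.Pt, (MulAction.orbit K r).ncard = O.ncard := by
      intro r
      obtain ⟨g, rfl⟩ := L.exists_smul_o r
      have : MulAction.orbit K (g • L.o) = (g • ·) '' O := by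
        ext t
        constructor
        · rintro ⟨⟨k, hk⟩, rfl⟩
          have hk' : g⁻¹ * k * g ∈ K := by simpa using hK.conj_mem k hk g⁻¹
          refine ⟨(g⁻¹ * k * g) • L.o, ⟨⟨_, hk'⟩, rfl⟩, ?_⟩
          show g • (g⁻¹ * k * g) • L.o = k • g • L.o
          rw [← mul_smul, ← mul_smul]; group
        · rintro ⟨_, ⟨⟨k, hk⟩, rfl⟩, rfl⟩
          refine ⟨⟨g * k * g⁻¹, hK.conj_mem k hk g⟩, ?_⟩
          show (g * k * g⁻¹) • g • L.o = g • k • L.o
          rw [← mul_smul, ← mul_smul]; group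
      rw [this, Set.ncard_image_of_injective _ (MulAction.injective g)]
    classical
    haveI : Fintype L.Pt := Fintype.ofFinite _
    haveI : Fintype (MulAction.orbitRel.Quotient K L.Pt) := Fintype.ofFinite _
    rw [← L.card_pt, Nat.card_congr (MulAction.selfEquivSigmaOrbits K L.Pt), Nat.card_sigma,
      Finset.sum_congr rfl fun ω _ => (Nat.card_coe_set_eq _).trans (h2 ω.out), Finset.sum_const, smul_eq_mul]
    exact Dvd.intro_left _ rfl
  obtain ⟨k, hk, hkN⟩ := SetLike.not_le_iff_exists.1 h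
  have hko : k • L.o ∈ O := ⟨⟨k, hk⟩, rfl⟩
  have ho : L.o ∈ O := MulAction.mem_orbit_self _
  have near_card : (L.nb L.o).ncard = 30 := L.card_nb _
  have hnf : Disjoint (L.nb L.o) L.far := Set.disjoint_left.2 fun r hr hf => by
    obtain ⟨i, hi⟩ := L.adj_o.1 hr
    exact hf.2 i hi
  have hnb : ∀ r ∈ O, r ∈ L.nb L.o → L.nb L.o ⊆ O := by
    intro r hr hn
    rw [L.nb_o_eq ⟨p, hp⟩] at hn ⊢
    obtain ⟨⟨i, c⟩, rfl⟩ := hn
    rintro _ ⟨⟨j, d⟩, rfl⟩
    exact hnear i c j d hr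
  have hff : ∀ r ∈ O, r ∈ L.far → L.far ⊆ O := by
    intro r hr hf q hq
    obtain ⟨x, rfl⟩ := L.far_trans hp hf
    obtain ⟨y, rfl⟩ := L.far_trans hp hq
    exact hfar x y hr
  have hsplit : ∀ r, r = L.o ∨ r ∈ L.nb L.o ∨ r ∈ L.far := fun r =>
    (L.cases_pt r).imp id fun h => h.imp (fun ⟨i, hi⟩ => L.adj_o.2 ⟨i, hi⟩) id
  by_contra hne
  have hle := Nat.le_of_dvd (by norm_num) hdvd
  by_cases h1 : L.nb L.o ⊆ O <;> by_cases h2 : L.far ⊆ O
  · exact hne (Set.eq_univ_of_forall fun r => by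
      rcases hsplit r with rfl | h | h
      exacts [ho, h1 h, h2 h])
  · have heq : O = insert L.o (L.nb L.o) := by
      ext r
      constructor
      · intro hr
        rcases hsplit r with h | h | h
        exacts [Or.inl h, Or.inr h, absurd (hff r hr h) h2]
      · rintro (rfl | h)
        exacts [ho, h1 h]
    rw [heq, Set.ncard_insert_of_notMem (fun h => h.1 rfl), near_card] at hdvd
    norm_num at hdvd
  · have heq : O = insert L.o L.far := by
      ext r
      constructor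
      · intro hr
        rcases hsplit r with h | h | h
        exacts [Or.inl h, absurd (hnb r hr h) h1, Or.inr h]
      · rintro (rfl | h)
        exacts [ho, h2 h]
    rw [heq, Set.ncard_insert_of_notMem (fun h => h.1 rfl), L.card_far] at hdvd
    norm_num at hdvd
  · rcases hsplit (k • L.o) with h | h | h
    · exact hkN (L.smul_o_eq.1 h)
    · exact h1 (hnb _ hko h)
    · exact h2 (hff _ hko h)

theorem exists_invol_lift (k : Fin 3) :
    ∃ t ∈ L.N, t * t = 1 ∧ t ≠ 1 ∧ ∀ x, t * L.e x * t⁻¹ = L.e (app (gidx k) x) := by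
  obtain ⟨p, hp⟩ := L.exists_far
  refine ⟨L.cl ⟨p, hp⟩ (gidx k), L.cl_mem _ _, ?_, fun h => ?_, L.cl_act _ _⟩
  · refine L.fix_eq_one ⟨p, hp⟩ (by rw [mul_smul, L.cl_fix, L.cl_fix]) fun x => ?_
    calc _ = L.cl ⟨p, hp⟩ (gidx k) * (L.cl ⟨p, hp⟩ (gidx k) * L.e x * (L.cl ⟨p, hp⟩ (gidx k))⁻¹) *
          (L.cl ⟨p, hp⟩ (gidx k))⁻¹ := by group
      _ = _ := by rw [L.cl_act, L.cl_act, (gen_sq k).1]
  · obtain ⟨x, hx⟩ := (gen_sq k).2
    have := L.cl_act ⟨p, hp⟩ (gidx k) x
    rw [h, one_mul, inv_one, mul_one] at this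
    exact hx (L.e_inj this).symm

theorem isSimpleGroup : IsSimpleGroup G := by
  haveI : Nontrivial G := Finite.one_lt_card_iff_nontrivial.1 (by rw [L.card_G]; norm_num)
  refine ⟨fun K hK => ?_⟩
  by_cases hle : K ≤ L.N
  · exact Or.inl (L.eq_bot_of_le hK hle)
  right
  have horb := L.orbit_eq hK hle
  -- some involution lies in `K`
  have hKc : Nat.card K = 112 * Nat.card (MulAction.stabilizer K L.o) := by
    rw [← (MulAction.stabilizer K L.o).index_mul_card, MulAction.index_stabilizer, horb, Set.ncard_univ, L.card_pt]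
  obtain ⟨s, hs⟩ := exists_prime_orderOf_dvd_card' (G := K) 2 (by rw [hKc]; exact Dvd.dvd.mul_right (by norm_num) _)
  have hs2 : (s : G) * s = 1 := by
    rw [← pow_two, ← hs, ← Subgroup.orderOf_coe, pow_orderOf_eq_one]
  have hs1 : (s : G) ≠ 1 := fun h => by
    rw [← Subgroup.orderOf_coe, h, orderOf_one] at hs; norm_num at hs
  have hinvol : ∀ t : G, t * t = 1 → t ≠ 1 → t ∈ K := fun t ht ht1 => by
    obtain ⟨g, rfl⟩ := isConj_iff.1 (L.one_class _ t hs2 hs1 ht ht1)
    exact hK.conj_mem _ s.2 g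
  choose t htN ht2 ht1 hta using L.exists_invol_lift
  have htK : ∀ k, t k ∈ K := fun k => hinvol _ (ht2 k) (ht1 k)
  have hE : ∀ x, L.e x ∈ K := by
    refine (L.E_inter hK).resolve_left fun h => ?_
    obtain ⟨x, hx⟩ := (gen_sq 0).2
    have hm : L.e (addV (app (gidx 0) x) (negV x)) ∈ K := by
      rw [L.e_add, L.e_neg, ← hta, show t 0 * L.e x * (t 0)⁻¹ * (L.e x)⁻¹ =
        t 0 * (L.e x * (t 0)⁻¹ * (L.e x)⁻¹) by group]
      exact mul_mem (htK 0) (hK.conj_mem _ (inv_mem (htK 0)) _)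
    have := congrArg L.e (h _ hm)
    rw [L.e_add, L.e_neg, L.e_zero, mul_inv_eq_one] at this
    exact hx (L.e_inj this)
  -- every lift lies in `K`
  have hall : ∀ n : ℕ, ∀ a : Fin 360, (a : ℕ) = n → ∀ g, (∀ x, g * L.e x * g⁻¹ = L.e (app a x)) → g ∈ K := by
    intro n
    induction n using Nat.strong_induction_on with
    | _ n ih =>
      intro a ha g hg
      rcases app_parent a with h0 | ⟨hlt, hpar⟩
      · have ha0 : a = 0 := Fin.ext h0
        obtain ⟨w, rfl⟩ := L.cent_self g fun x => by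
          have := hg x
          rw [ha0, app_id] at this
          exact mul_inv_eq_iff_eq_mul.1 this
        exact hE w
      · have hg' : ∀ x, (t (parGen a))⁻¹ * g * L.e x * ((t (parGen a))⁻¹ * g)⁻¹ = L.e (app (parent a) x) := fun x => by
          calc _ = (t (parGen a))⁻¹ * (g * L.e x * g⁻¹) * t (parGen a) := by group
            _ = _ := by rw [hg, hpar, ← hta (parGen a)]; group
        have := mul_mem (htK (parGen a)) (ih _ (ha ▸ hlt) (parent a) rfl _ hg')
        rwa [mul_inv_cancel_left] at this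
  refine eq_top_iff.2 fun g _ => ?_
  obtain ⟨⟨k, hk⟩, hko⟩ : g • L.o ∈ MulAction.orbit K L.o := horb ▸ Set.mem_univ _
  have hn : k⁻¹ * g ∈ L.N := L.smul_o_eq.1 (by
    rw [mul_smul, inv_smul_eq_iff]; exact hko.symm)
  obtain ⟨a, ha⟩ := L.act_of_mem hn
  have := mul_mem hk (hall _ a rfl _ ha)
  rwa [mul_inv_cancel_left] at this

/-- Recognition of `PSU(4,3)`. -/
theorem iso (K : Type) [Field K] [Fintype K] (hK : Fintype.card K = 9) : Nonempty (G ≃* Cfsg.PSU 4 K 3) := by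
  haveI := L.isSimpleGroup
  obtain ⟨p, hp⟩ := L.exists_far
  refine iso_of_action L.card_G (L.rho ⟨p, hp⟩) ?_ (L.rho_le _) K hK
  rw [← MonoidHom.ker_eq_bot_iff]
  refine L.eq_bot_of_le (MonoidHom.normal_ker _) fun g hg => L.smul_o_eq.1 ?_
  have := L.theta_rho ⟨p, hp⟩ g 0
  rw [MonoidHom.mem_ker.1 hg, Equiv.Perm.one_apply, L.theta_zero] at this
  exact this.symm

end Loc

end Cfsg.Agent.U43Rec
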