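import Cfsg.Agent.Lib.U43Rec.Data
import Mathlib.Tactic
import Mathlib.Data.Fintype.Basic

/-!
The coded affine orthogonal geometry on `F3^4` and the model graph on 112 points, with the finite facts
needed for the recognition of `U4(3)`.
-/

set_option autoImplicit false
set_option maxRecDepth 100000
set_option Elab.async false
set_option linter.style.longLine false

namespace Cfsg.Agent.U43Rec

/-- The vectors of `F3^4`, coded in base three. -/
abbrev V := Fin 81

/-- Addition. -/
def addV (x y : V) : V := Fin.ofNat 81 (tget 7 (tget 567 addTab x) y)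

/-- Negation. -/
def negV (x : V) : V := Fin.ofNat 81 (tget 7 negTab x)

/-- The action of the `a`-th linear map. -/
def app (a : Fin 360) (x : V) : V := Fin.ofNat 81 (tget 7 (elems.getD a 0) x)

/-- The representative of a singular line. -/
def rep (i : Fin 10) : V := Fin.ofNat 81 (tget 7 repTab i)

/-- The linear form of a singular line. -/
def fn (i : Fin 10) (x : V) : Fin 3 := Fin.ofNat 3 (tget 2 (tget 162 funTab i) x)

/-- The kind of a vector: zero, singular, or one of two classes of non-singular vectors. -/
def kind (x : V) : Fin 4 := Fin.ofNat 4 (tget 2 kindTab x)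

/-- A singular vector. -/
abbrev Sing (x : V) : Prop := kind x = 1

/-- A non-singular vector. -/
abbrev Nsing (x : V) : Prop := kind x = 2 ∨ kind x = 3

/-- The generators. -/
def gidx (k : Fin 3) : Fin 360 := Fin.ofNat 360 (genIdx.getD k 0)

/-- The parent of a linear map. -/
def parent (a : Fin 360) : Fin 360 := Fin.ofNat 360 (elemPar.getD a (0, 0)).2

/-- The generator leading from the parent. -/
def parGen (a : Fin 360) : Fin 3 := Fin.ofNat 3 (elemPar.getD a (0, 0)).1

/-- The singular basis. -/
def sbv (k : Fin 4) : V := Fin.ofNat 81 (tget 7 basisTab k)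

/-- A coordinate with respect to the singular basis. -/
def coord (k : Fin 4) (x : V) : ℕ := tget 7 coefTab x / 3 ^ (k : ℕ) % 3

/-- Multiple of a vector. -/
def smulV : ℕ → V → V
  | 0, _ => 0
  | 1, x => x
  | _, x => negV x

/-- The linear combination of four vectors given by coordinates of `x`. -/
def lin (w : Fin 4 → V) (x : V) : V :=
  addV (addV (smulV (coord 0 x) (w 0)) (smulV (coord 1 x) (w 1)))
    (addV (smulV (coord 2 x) (w 2)) (smulV (coord 3 x) (w 3)))

theorem addV_zero : ∀ x : V, addV x 0 = x ∧ addV 0 x = x ∧ addV x (negV x) = 0 ∧ addV x x = negV x ∧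
    negV (negV x) = x := by decide +kernel

theorem rep_facts : ∀ i : Fin 10, Sing (rep i) ∧ negV (rep i) ≠ rep i ∧ Sing (negV (rep i)) ∧ fn i (rep i) = 0 := by
  decide +kernel

theorem rep_cover : ∀ x : V, Sing x → ∃ i : Fin 10, x = rep i ∨ x = negV (rep i) := by decide +kernel

theorem rep_inj : ∀ i j : Fin 10, rep i = rep j ∨ rep i = negV (rep j) → i = j := by decide +kernel

theorem kind_zero : ∀ x : V, kind x = 0 ↔ x = 0 := by decide +kernel

theorem kind_neg : ∀ x : V, kind (negV x) = kind x := by decide +kernel

theorem sing_span : ∀ v w : V, Sing v → Sing w → w = v ∨ w = negV v ∨ Nsing (addV v w) := by decide +kernel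

theorem sing_count : (List.finRange 81).countP (fun x => decide (kind x = 1)) = 20 ∧
    (List.finRange 81).countP (fun x => decide (kind x = 2)) = 30 ∧
    (List.finRange 81).countP (fun x => decide (kind x = 3)) = 30 := by decide +kernel

theorem elems_nodup : (elems.take 360).Nodup ∧ elems.length = 360 := by decide +kernel

theorem app_inj : ∀ a : Fin 360, ∀ x y : Fin 4, app a (sbv x) = app a (sbv y) → x = y := by decide +kernel

theorem app_parent : ∀ a : Fin 360, (a : ℕ) = 0 ∨ ((parent a : ℕ) < a ∧
    ∀ x : V, app a x = app (gidx (parGen a)) (app (parent a) x)) := by decide +kernel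

theorem app_id : ∀ x : V, app 0 x = x := by decide +kernel

theorem gen_sq : ∀ k : Fin 3, (∀ x : V, app (gidx k) (app (gidx k) x) = x) ∧ ∃ x : V, app (gidx k) x ≠ x := by
  decide +kernel

theorem app_kind : ∀ k : Fin 3, ∀ x : V, kind (app (gidx k) x) = kind x := by decide +kernel

/-- The map moving the first singular vector to the `k`-th one. -/
def singWit (k : Fin 20) : Fin 360 := Fin.ofNat 360 (orbSing.getD k 0)

theorem sing_trans : ∀ x : V, Sing x → ∃ k : Fin 20, app (singWit k) (rep 0) = x := by decide +kernel

/-- A map moving `1` to a given vector. -/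
def oneWit (x : V) : Fin 360 := Fin.ofNat 360 (tget 10 orbOne x)

/-- A map moving `3` to a given vector. -/
def threeWit (x : V) : Fin 360 := Fin.ofNat 360 (tget 10 orbThree x)

theorem kind_trans : ∀ x : V, (kind x = 2 → app (oneWit x) 1 = x) ∧ (kind x = 3 → app (threeWit x) 3 = x) := by
  decide +kernel

theorem kind_reps : kind 1 = 2 ∧ kind 3 = 3 := by decide +kernel

/-- A map showing irreducibility. -/
def irrWit (x : V) : Fin 360 := Fin.ofNat 360 (tget 10 irrTab x)

theorem irr : ∀ x : V, x ≠ 0 → Sing x ∨ Sing (addV x (app (irrWit x) x)) := by decide +kernel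

theorem lin_sbv : ∀ x : V, lin sbv x = x := by decide +kernel

theorem sbv_sing : ∀ k : Fin 4, Sing (sbv k) := by decide +kernel

theorem fn_add : ∀ i : Fin 10, ∀ x y : V, fn i (addV x y) = fn i x + fn i y := by decide +kernel

theorem fn_ker : ∀ i : Fin 10, (List.finRange 81).countP (fun x => decide (fn i x = 0)) = 27 := by decide +kernel

theorem fn_faithful : ∀ x : V, (∀ i : Fin 10, fn i x = 0) → x = 0 := by decide +kernel

/-- The stabiliser of a singular representative. -/
def stabW (i : Fin 10) (k : Fin 18) : Fin 360 := Fin.ofNat 360 ((stabTab.getD i []).getD k 0)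

/-- A map inverting a singular representative. -/
def turnW (i : Fin 10) : Fin 360 := Fin.ofNat 360 (turnTab.getD i 0)

theorem stab_fix : ∀ i : Fin 10, ∀ k : Fin 18, app (stabW i k) (rep i) = rep i ∧
    ∀ x : V, fn i (app (stabW i k) x) = fn i x := by decide +kernel

theorem stab_all : ∀ i : Fin 10, ∀ a : Fin 360, app a (rep i) = rep i → ∃ k : Fin 18, stabW i k = a := by
  decide +kernel

theorem turn_spec : ∀ i : Fin 10, app (turnW i) (rep i) = negV (rep i) ∧
    ∀ x : V, fn i (app (turnW i) x) = - fn i x := by decide +kernel

theorem stab_rel : ∀ i : Fin 10, ∀ k : Fin 18,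
    (∀ x : V, app (stabW i k) (app (stabW i k) x) = x) ∨
      ∀ x : V, app (stabW i k) (app (turnW i) (app (turnW i) (app (stabW i k) x))) =
        app (turnW i) (app (turnW i) x) := by decide +kernel

/-- The commutator of a stabilising map and a vector. -/
def perpVec (i : Fin 10) (j : Fin 3) : V :=
  let p := ((perpWit.getD i []).getD j (0, 0))
  addV (app (Fin.ofNat 360 p.1) (app (Fin.ofNat 360 p.1) (Fin.ofNat 81 p.2))) (negV (Fin.ofNat 81 p.2))

/-- The stabilising map of a commutator. -/
def perpMap (i : Fin 10) (j : Fin 3) : Fin 360 := Fin.ofNat 360 ((perpWit.getD i []).getD j (0, 0)).1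

/-- The vector of a commutator. -/
def perpSrc (i : Fin 10) (j : Fin 3) : V := Fin.ofNat 81 ((perpWit.getD i []).getD j (0, 0)).2

theorem perp_mem : ∀ i : Fin 10, ∀ j : Fin 3, app (perpMap i j) (rep i) = rep i := by decide +kernel

theorem perp_gen : ∀ i : Fin 10, ∀ x : V, fn i x = 0 → ∃ a b c : Fin 3,
    addV (addV (smulV a (perpVec i 0)) (smulV b (perpVec i 1))) (smulV c (perpVec i 2)) = x := by decide +kernel

/-- The map moving the first near line onto another with a given value. -/
def nearW (j : Fin 10) (c : Fin 2) : Fin 360 := Fin.ofNat 360 (nearWit.getD (2 * j + c) 0)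

/-- A vector with first form one. -/
def x0 : V := Fin.ofNat 81 nearBase

theorem near_trans : ∀ j : Fin 10, ∀ c : Fin 2, (app (nearW j c) (rep 0) = rep j ∨ app (nearW j c) (rep 0) = negV (rep j)) ∧
    ((fn j (app (nearW j c) x0) : ℕ) = c + 1) := by decide +kernel

theorem x0_spec : fn 0 x0 = 1 := by decide +kernel

/-- The subgroup generated by a pair, by index. -/
def spanIdx (x y : V) : Fin 171 := Fin.ofNat 171 (tget 8 subIdx (81 * (x : ℕ) + y))

/-- The element set of a small subgroup. -/
def spanMask (s : Fin 171) : ℕ := subMasks.getD s 0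

/-- The generators of a small subgroup. -/
def spanGen (s : Fin 171) : V × V :=
  (Fin.ofNat 81 (subReps.getD s (0, 0)).1, Fin.ofNat 81 (subReps.getD s (0, 0)).2)

/-- The combinations of a pair. -/
def comb (x y : V) (i j : Fin 3) : V := addV (smulV i x) (smulV j y)

/-- The element set generated by a pair. -/
def pairMask (x y : V) : ℕ :=
  (List.finRange 3).foldl (fun m i => (List.finRange 3).foldl (fun m j => m ||| 1 <<< (comb x y i j : ℕ)) m) 0

theorem span_spec : ∀ x y : V, pairMask x y = spanMask (spanIdx x y) := by decide +kernel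

theorem span_gen : ∀ s : Fin 171, pairMask (spanGen s).1 (spanGen s).2 = spanMask s := by decide +kernel

/-- The witness maps for a small subgroup. -/
def witList (s : Fin 171) : List (Fin 360) := (subWit.getD s []).map (Fin.ofNat 360)

/-- The image of a small subgroup. -/
def imgMask (a : Fin 360) (s : Fin 171) : ℕ := pairMask (app a (spanGen s).1) (app a (spanGen s).2)

theorem wit_spec : ∀ s : Fin 171, spanMask s = 1 ∨
    (((witList s).map fun a => imgMask a s).Nodup ∧
      81 * (List.finRange 81).countP (fun z : V => (spanMask s).testBit z) <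
        81 * (witList s).length * 81 ∧
      81 < (witList s).length * (81 / (List.finRange 81).countP (fun z : V => (spanMask s).testBit z))) := by
  decide +kernel

/-- The model graph. -/
def adjM (a b : Fin 112) : Bool := (tget 112 adjModel a).testBit b

/-- The graph on the coded lines. -/
def adjC (a b : Fin 112) : Bool := (tget 112 adjCoded a).testBit b

/-- The near point of a line with a given value. -/
def nearPt (i : Fin 10) (c : Fin 3) : Fin 112 := ⟨1 + 3 * i + c, by omega⟩

/-- The far point of a vector. -/
def farPt (x : V) : Fin 112 := ⟨31 + x, by omega⟩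

/-- A map to coded lines. -/
def toLine (a : Fin 112) : Fin 112 := Fin.ofNat 112 (tget 7 locTab a)

/-- A map from coded lines. -/
def ofLine (a : Fin 112) : Fin 112 := Fin.ofNat 112 (tget 7 invLocTab a)

theorem loc_inv : ∀ a : Fin 112, ofLine (toLine a) = a ∧ toLine (ofLine a) = a := by decide +kernel

theorem loc_adj : ∀ a b : Fin 112, adjC (toLine a) (toLine b) = adjM a b := by decide +kernel

theorem adj_irrefl_symm : ∀ a b : Fin 112, adjM a b = adjM b a ∧ adjM a a = false := by decide +kernel

theorem adj_zero : ∀ i : Fin 10, ∀ c : Fin 3, adjM 0 (nearPt i c) = true := by decide +kernel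

theorem adj_zero_far : ∀ x : V, adjM 0 (farPt x) = false := by decide +kernel

theorem adj_near : ∀ i j : Fin 10, ∀ c d : Fin 3,
    (adjM (nearPt i c) (nearPt j d) = true ↔ i = j ∧ c ≠ d) := by decide +kernel

theorem adj_near_far : ∀ i : Fin 10, ∀ c : Fin 3, ∀ x : V,
    (adjM (nearPt i c) (farPt x) = true ↔ fn i x = c) := by decide +kernel

theorem adj_far : ∀ x y : V, (adjM (farPt x) (farPt y) = true ↔ Sing (addV x (negV y))) := by decide +kernel

theorem pt_cases : ∀ a : Fin 112, a = 0 ∨ (∃ i c, nearPt i c = a) ∨ ∃ x, farPt x = a := by decide +kernel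

/-- Candidates for linear automorphisms fixing the first basis vector, by the images of the others. -/
def linCands : List (V × V × V) :=
  let S := (List.finRange 81).filter fun x => decide (kind x = 1)
  S.flatMap fun b => S.flatMap fun c => (S.filter fun d =>
    (List.finRange 10).all fun i => decide (kind (lin ![sbv 0, b, c, d] (rep i)) = 1)).map fun d => (b, c, d)

theorem linCands_length : linCands.length ≤ 144 := by decide +kernel

end Cfsg.Agent.U43Rec
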