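import Cfsg.Agent.Lib.U43Rec.Local
import Mathlib.GroupTheory.GroupAction.Quotient
import Mathlib.GroupTheory.QuotientGroup.Basic

/-!
The conjugates of `E`: meeting `E`, and the bound on the stabilisers in `E`.
-/

set_option autoImplicit false
set_option linter.unusedSectionVars false

namespace Cfsg.Agent.U43Rec

open Subgroup

namespace Loc

variable {G : Type*} [Group G] [Finite G] (L : Loc G)
include L

/-- The points: cosets of the normaliser. -/
abbrev Pt : Type _ := G ⧸ L.N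

/-- The base point. -/
def o : L.Pt := QuotientGroup.mk (1 : G)

theorem smul_mk (g h : G) : g • (QuotientGroup.mk h : L.Pt) = QuotientGroup.mk (g * h) := rfl

theorem smul_o (g : G) : g • L.o = (QuotientGroup.mk g : L.Pt) := by
  rw [o, L.smul_mk, mul_one]

theorem smul_o_eq {g : G} : g • L.o = L.o ↔ g ∈ L.N := by
  rw [L.smul_o, o, eq_comm, QuotientGroup.eq, inv_one, one_mul]

theorem exists_smul_o (p : L.Pt) : ∃ g : G, g • L.o = p := by
  obtain ⟨g, rfl⟩ := QuotientGroup.mk_surjective p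
  exact ⟨g, L.smul_o g⟩

theorem stab_o : MulAction.stabilizer G L.o = L.N := by
  ext g
  exact L.smul_o_eq

theorem card_pt : Nat.card L.Pt = 112 := by
  have h := Subgroup.card_eq_card_quotient_mul_card_subgroup L.N
  rw [L.card_G, L.card_norm] at h
  change 3265920 = Nat.card L.Pt * 29160 at h
  omega

/-- `e x` lies in the conjugate of `E` at the point. -/
def Meets (p : L.Pt) (x : V) : Prop := ∃ g : G, g • L.o = p ∧ ∃ y, g * L.e y * g⁻¹ = L.e x

theorem meets_iff {g : G} {p : L.Pt} (hg : g • L.o = p) {x : V} :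
    L.Meets p x ↔ ∃ y, g * L.e y * g⁻¹ = L.e x := by
  refine ⟨fun ⟨h, hh, y, hy⟩ => ?_, fun h => ⟨g, hg, h⟩⟩
  have hn : g⁻¹ * h ∈ L.N := by
    rw [← hg, L.smul_o, L.smul_o, QuotientGroup.eq] at hh
    simpa [mul_inv_rev] using inv_mem hh
  obtain ⟨a, ha⟩ := L.act_of_mem hn
  refine ⟨app a y, ?_⟩
  rw [← ha, ← hy]; group

theorem meets_add {p : L.Pt} {x y : V} (hx : L.Meets p x) (hy : L.Meets p y) : L.Meets p (addV x y) := by
  obtain ⟨g, hg⟩ := L.exists_smul_o p
  obtain ⟨u, hu⟩ := (L.meets_iff hg).1 hx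
  obtain ⟨v, hv⟩ := (L.meets_iff hg).1 hy
  exact (L.meets_iff hg).2 ⟨addV u v, by rw [L.e_add, conj_mul', hu, hv, L.e_add]⟩

theorem meets_neg {p : L.Pt} {x : V} (hx : L.Meets p x) : L.Meets p (negV x) := by
  obtain ⟨g, hg⟩ := L.exists_smul_o p
  obtain ⟨u, hu⟩ := (L.meets_iff hg).1 hx
  exact (L.meets_iff hg).2 ⟨negV u, by rw [L.e_neg, ← conj_inv, hu, L.e_neg]⟩

theorem meets_zero (p : L.Pt) : L.Meets p 0 := by
  obtain ⟨g, hg⟩ := L.exists_smul_o p
  exact (L.meets_iff hg).2 ⟨0, by rw [L.e_zero, mul_one, mul_inv_cancel]⟩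

theorem meets_o (x : V) : L.Meets L.o x :=
  ⟨1, one_smul _ _, x, by simp⟩

theorem meets_nsing {p : L.Pt} {x : V} (hx : Nsing x) (h : L.Meets p x) : p = L.o := by
  obtain ⟨g, rfl⟩ := L.exists_smul_o p
  obtain ⟨y, hy⟩ := (L.meets_iff rfl).1 h
  exact L.smul_o_eq.2 (L.conj_eq_nsing hx hy)

theorem meets_smul {n : G} {a : Fin 360} (ha : ∀ x, n * L.e x * n⁻¹ = L.e (app a x)) {p : L.Pt} {x : V}
    (h : L.Meets p x) : L.Meets (n • p) (app a x) := by
  obtain ⟨g, hg, y, hy⟩ := h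
  exact ⟨n * g, by rw [mul_smul, hg], y, by rw [← ha, ← hy]; group⟩

theorem meets_e_smul (u : V) {p : L.Pt} {x : V} (h : L.Meets p x) : L.Meets (L.e u • p) x := by
  have := L.meets_smul (n := L.e u) (a := 0) (fun x => by rw [app_id, L.e_comm, mul_inv_cancel_right]) h
  rwa [app_id] at this

theorem e_smul_o (u : V) : L.e u • L.o = L.o := L.smul_o_eq.2 (L.e_mem_N u)

theorem e_smul_ne {u : V} {p : L.Pt} (hp : p ≠ L.o) : L.e u • p ≠ L.o := fun h =>
  hp (MulAction.injective (L.e u) (h.trans (L.e_smul_o u).symm))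

theorem e_smul_smul (u w : V) (p : L.Pt) : L.e u • L.e w • p = L.e (addV u w) • p := by
  rw [L.e_add, mul_smul]

theorem n_smul_ne {n : G} (hn : n ∈ L.N) {p : L.Pt} (hp : p ≠ L.o) : n • p ≠ L.o := fun h =>
  hp (MulAction.injective n (h.trans (L.smul_o_eq.2 hn).symm))

/-- The stabiliser of a point in `E`, as a set of vectors. -/
noncomputable def J (p : L.Pt) : Finset V :=
  haveI := Classical.decEq L.Pt
  Finset.univ.filter fun x => L.e x • p = p

theorem mem_J {p : L.Pt} {x : V} : x ∈ L.J p ↔ L.e x • p = p := by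
  simp [J]

theorem J_add {p : L.Pt} {x y : V} (hx : x ∈ L.J p) (hy : y ∈ L.J p) : addV x y ∈ L.J p := by
  rw [L.mem_J] at *
  rw [L.e_add, mul_smul, hy, hx]

theorem J_neg {p : L.Pt} {x : V} (hx : x ∈ L.J p) : negV x ∈ L.J p := by
  rw [L.mem_J] at *
  rw [L.e_neg, inv_smul_eq_iff]
  exact hx.symm

theorem J_zero (p : L.Pt) : (0 : V) ∈ L.J p := by
  rw [L.mem_J, L.e_zero, one_smul]

theorem J_e_smul (u : V) (p : L.Pt) : L.J (L.e u • p) = L.J p := by
  ext x
  rw [L.mem_J, L.mem_J, ← mul_smul, L.e_comm, mul_smul]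
  exact (MulAction.injective (L.e u)).eq_iff

theorem J_smul {n : G} {a : Fin 360} (ha : ∀ x, n * L.e x * n⁻¹ = L.e (app a x)) (p : L.Pt) :
    L.J (n • p) = (L.J p).image (app a) := by
  ext x
  rw [Finset.mem_image]
  obtain ⟨y, rfl⟩ := (Finite.injective_iff_surjective.1 (L.app_injective a)) x
  rw [L.mem_J, show L.e (app a y) • n • p = n • L.e y • p by rw [← mul_smul, ← mul_smul, ← ha]; group]
  constructor
  · intro h
    exact ⟨y, L.mem_J.2 (MulAction.injective n h), rfl⟩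
  · rintro ⟨z, hz, e⟩
    rw [← L.app_injective a e, L.mem_J.1 hz]

/-- Orbit-stabiliser for `E`. -/
theorem orbit_mul_J (p : L.Pt) : (Set.range fun x => L.e x • p).ncard * (L.J p).card = 81 := by
  classical
  have h1 := (MulAction.stabilizer L.E p).index_mul_card
  rw [MulAction.index_stabilizer, L.card_E] at h1
  have h2 : MulAction.orbit L.E p = Set.range fun x => L.e x • p := by
    ext q
    constructor
    · rintro ⟨⟨_, x, rfl⟩, rfl⟩
      exact ⟨x, rfl⟩
    · rintro ⟨x, rfl⟩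
      exact ⟨⟨_, x, rfl⟩, rfl⟩
  have h3 : Nat.card (MulAction.stabilizer L.E p) = (L.J p).card := by
    rw [← Nat.card_eq_finsetCard]
    refine (Nat.card_eq_of_bijective (fun x : L.J p => (⟨⟨L.e x.1, x.1, rfl⟩, L.mem_J.1 x.2⟩ :
      MulAction.stabilizer L.E p)) ⟨fun x y e => Subtype.ext (L.e_inj (congrArg (fun u : MulAction.stabilizer L.E p => (u.1 : G)) e)), ?_⟩).symm
    rintro ⟨⟨_, x, rfl⟩, hx⟩
    exact ⟨⟨x, L.mem_J.2 hx⟩, rfl⟩
  rw [h2, h3] at h1
  exact h1

/-- The stabiliser in `E` of a point is at most nine times the part of `E` in the conjugate. -/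
theorem card_J_le {p : L.Pt} (S : Finset V) (hS : ∀ x, L.Meets p x → x ∈ S) :
    (L.J p).card ≤ 9 * S.card := by
  classical
  obtain ⟨g, hg⟩ := L.exists_smul_o p
  let JG : Subgroup G :=
    { carrier := {u | ∃ x, x ∈ L.J p ∧ g * u * g⁻¹ = L.e x}
      one_mem' := ⟨0, L.J_zero p, by rw [L.e_zero, mul_one, mul_inv_cancel]⟩
      mul_mem' := by
        rintro u v ⟨x, hx, ex⟩ ⟨y, hy, ey⟩
        exact ⟨_, L.J_add hx hy, by rw [conj_mul', ex, ey, L.e_add]⟩
      inv_mem' := by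
        rintro u ⟨x, hx, ex⟩
        exact ⟨_, L.J_neg hx, by rw [← conj_inv, ex, L.e_neg]⟩ }
  have hN : JG ≤ L.N := by
    rintro u ⟨x, hx, ex⟩
    rw [← L.smul_o_eq]
    refine MulAction.injective g ?_
    show g • u • L.o = g • L.o
    rw [← mul_smul, show g * u = L.e x * g by rw [← ex]; group, mul_smul, hg]
    exact L.mem_J.1 hx
  have hJ : Nat.card JG = (L.J p).card := by
    rw [← Nat.card_eq_finsetCard]
    refine (Nat.card_eq_of_bijective (fun x : L.J p => (⟨g⁻¹ * L.e x.1 * g, x.1, x.2, by group⟩ : JG)) ⟨?_, ?_⟩).symm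
    · intro x y e
      exact Subtype.ext (L.e_inj (mul_left_cancel (mul_right_cancel (congrArg Subtype.val e))))
    · rintro ⟨u, x, hx, ex⟩
      exact ⟨⟨x, hx⟩, Subtype.ext (show g⁻¹ * L.e x * g = u by rw [← ex]; group)⟩
  haveI hn : (L.E.subgroupOf L.N).Normal := Subgroup.normal_in_normalizer
  let φ : JG →* L.N ⧸ L.E.subgroupOf L.N := (QuotientGroup.mk' _).comp (Subgroup.inclusion hN)
  have hq : Nat.card (L.N ⧸ L.E.subgroupOf L.N) = 360 := by
    have hle : L.E ≤ L.N := by rintro _ ⟨x, rfl⟩; exact L.e_mem_N x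
    have h := Subgroup.card_eq_card_quotient_mul_card_subgroup (L.E.subgroupOf L.N)
    rw [L.card_norm, Nat.card_congr (Subgroup.subgroupOfEquivOfLe hle).toEquiv, L.card_E] at h
    omega
  have h81 : Nat.card JG ∣ 81 := by
    rw [hJ, ← L.orbit_mul_J p]
    exact Dvd.intro_left _ rfl
  have hr : Nat.card φ.range ∣ 9 := by
    have a : Nat.card φ.range ∣ 81 := (Subgroup.card_range_dvd φ).trans h81
    have b : Nat.card φ.range ∣ 360 := hq ▸ Subgroup.card_subgroup_dvd_card φ.range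
    exact Nat.dvd_gcd a b
  have hk : Nat.card φ.ker ≤ S.card := by
    rw [← Nat.card_eq_finsetCard]
    have : ∀ u : φ.ker, ∃ x ∈ S, g * ((u : JG) : G) * g⁻¹ = L.e x := by
      rintro ⟨⟨u, x, hx, ex⟩, hu⟩
      have hmem : u ∈ L.E := by
        have := (QuotientGroup.eq_one_iff _).1 (MonoidHom.mem_ker.1 hu)
        exact this
      obtain ⟨y, hy⟩ := hmem
      exact ⟨x, hS x ((L.meets_iff hg).2 ⟨y, by rw [hy, ex]⟩), ex⟩
    choose f hf hf' using this
    refine Nat.card_le_card_of_injective (fun u => (⟨f u, hf u⟩ : S)) fun u v e => ?_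
    have := congrArg (fun x : S => L.e x.1) e
    simp only at this
    rw [← hf', ← hf'] at this
    exact Subtype.ext (Subtype.ext (mul_left_cancel (mul_right_cancel this)))
  have hmul : Nat.card JG = Nat.card φ.range * Nat.card φ.ker := by
    rw [Subgroup.card_eq_card_quotient_mul_card_subgroup φ.ker,
      Nat.card_congr (QuotientGroup.quotientKerEquivRange φ).toEquiv]
  rw [← hJ, hmul]
  exact Nat.mul_le_mul (Nat.le_of_dvd (by norm_num) hr) hk

end Loc

end Cfsg.Agent.U43Rec
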