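import Cfsg.Agent.Lib.U43Rec.Points
import Mathlib.Data.Set.Card.Arithmetic

/-!
The suborbits: ten lines of three near points and 81 far points on which `E` is regular.
-/

set_option autoImplicit false
set_option linter.unusedSectionVars false
set_option linter.style.haveILetI false

namespace Cfsg.Agent.U43Rec

open Subgroup

theorem testBit_pairMask (x y z : V) :
    (pairMask x y).testBit z = true ↔ ∃ i j : Fin 3, comb x y i j = z := by
  have h : ∀ (m : ℕ) (w : V), (m ||| 1 <<< (w : ℕ)).testBit z = (m.testBit z || decide (w = z)) := by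
    intro m w
    rw [Nat.testBit_or, Nat.one_shiftLeft, Nat.testBit_two_pow]
    simp [Fin.ext_iff]
  simp only [pairMask, show List.finRange 3 = [0, 1, 2] from rfl, List.foldl_cons, List.foldl_nil, h,
    Nat.zero_testBit, Bool.false_or, Bool.or_eq_true, decide_eq_true_eq]
  simp [Fin.exists_fin_succ, or_assoc]

namespace Loc

variable {G : Type*} [Group G] [Finite G] (L : Loc G)
include L

theorem e_comm_add (x y : V) : addV x y = addV y x := L.e_inj (by rw [L.e_add, L.e_add, L.e_comm])

theorem telescope (a b c : V) : addV (addV a (negV b)) (addV b (negV c)) = addV a (negV c) := L.e_inj (by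
  simp only [L.e_add, L.e_neg]
  group)

theorem telescope' (a b c : V) : addV (addV a b) (negV (addV b c)) = addV a (negV c) := L.e_inj (by
  simp only [L.e_add, L.e_neg]
  rw [L.e_comm b c]
  group)

theorem add_neg_cancel' (x y : V) : addV x (addV y (negV x)) = y := L.e_inj (by
  rw [L.e_add, L.e_add, L.e_neg, ← mul_assoc, L.e_comm x y, mul_inv_cancel_right])

theorem app_zero (a : Fin 360) : app a 0 = 0 :=
  L.e_inj (by rw [← L.nl_spec, L.e_zero, mul_one, mul_inv_cancel])

theorem app_smulV (a : Fin 360) (k : Fin 3) (x : V) : app a (smulV k x) = smulV k (app a x) := by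
  fin_cases k
  · exact L.app_zero a
  · rfl
  · exact L.app_neg a x

theorem app_comb (a : Fin 360) (x y : V) (i j : Fin 3) :
    app a (comb x y i j) = comb (app a x) (app a y) i j := by
  rw [comb, comb, L.app_add, L.app_smulV, L.app_smulV]

theorem comb_inj {x y : V} (hx : x ≠ 0) (hy : ∀ k : Fin 3, smulV k x ≠ y) {i j i' j' : Fin 3}
    (h : comb x y i j = comb x y i' j') : (i, j) = (i', j') := by
  have h3 : ∀ u : V, L.e u * L.e u * L.e u = 1 := fun u => by
    rw [← L.e_add, ← L.e_add, (addV_zero u).2.2.2.1, L.e_comm_add, (addV_zero u).2.2.1, L.e_zero]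
  have hp : ∀ (k : Fin 3) (u : V), L.e (smulV k u) = L.e u ^ (k : ℕ) := fun k u => by
    fin_cases k
    · simpa [smulV] using L.e_zero
    · simp [smulV]
    · show L.e (negV u) = _
      rw [L.e_neg, pow_two]
      exact inv_eq_of_mul_eq_one_right (by rw [← mul_assoc]; exact h3 u)
  have hc : Commute (L.e x) (L.e y) := L.e_comm x y
  have he : L.e x ^ (i : ℕ) * L.e y ^ (j : ℕ) = L.e x ^ (i' : ℕ) * L.e y ^ (j' : ℕ) := by
    rw [← hp, ← hp, ← hp, ← hp, ← L.e_add, ← L.e_add]
    exact congrArg L.e h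
  have hz : ∀ {u : G}, u * u * u = 1 → u ≠ 1 → ∀ a b : ℕ, a < 3 → b < 3 → u ^ a = u ^ b → a = b := by
    intro u hu hu1 a b ha hb e
    haveI := Fact.mk Nat.prime_three
    have ho : orderOf u = 3 := orderOf_eq_prime (by rw [pow_succ, pow_two, hu]) hu1
    exact pow_injOn_Iio_orderOf (by simpa [ho] using ha) (by simpa [ho] using hb) e
  by_cases hj : j = j'
  · subst hj
    exact Prod.ext (Fin.ext (hz (h3 x) (L.e_ne_one hx) _ _ i.2 i'.2 (mul_right_cancel he))) rfl
  exfalso
  obtain ⟨k, hk⟩ : ∃ k : Fin 3, L.e y = L.e x ^ (k : ℕ) := by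
    have hpm : ∀ (u : G), u * u * u = 1 → ∀ n : ℕ, u ^ n = u ^ (n % 3) := fun u hu n => by
      conv_lhs => rw [← Nat.div_add_mod n 3, pow_add, pow_mul, pow_succ, pow_two, hu, one_pow, one_mul]
    -- solve for `e y`
    have e1 : L.e y ^ (j : ℕ) * (L.e y ^ (j' : ℕ))⁻¹ = (L.e x ^ (i : ℕ))⁻¹ * L.e x ^ (i' : ℕ) := by
      rw [eq_inv_mul_iff_mul_eq, ← mul_assoc, he, mul_inv_cancel_right]
    have xi : ∀ n : ℕ, (L.e x ^ n)⁻¹ = L.e x ^ (2 * n) := fun n => by
      refine inv_eq_of_mul_eq_one_right ?_
      rw [← pow_add, show n + 2 * n = 3 * n by ring, pow_mul, pow_succ, pow_two, h3, one_pow]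
    have yi : ∀ n : ℕ, (L.e y ^ n)⁻¹ = L.e y ^ (2 * n) := fun n => by
      refine inv_eq_of_mul_eq_one_right ?_
      rw [← pow_add, show n + 2 * n = 3 * n by ring, pow_mul, pow_succ, pow_two, h3, one_pow]
    rw [xi, yi, ← pow_add, ← pow_add] at e1
    obtain ⟨m, hm⟩ := (show ∀ j j' : Fin 3, j ≠ j' → ∃ m : Fin 3, ((j : ℕ) + 2 * j') * m % 3 = 1 by decide) j j' hj
    have e2 := congrArg (fun u => u ^ (m : ℕ)) e1
    simp only [← pow_mul] at e2
    rw [hpm _ (h3 y), hm, pow_one, hpm _ (h3 x)] at e2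
    exact ⟨⟨_, Nat.mod_lt _ (by norm_num)⟩, e2⟩
  exact hy k (L.e_inj (by rw [hp, hk]))

end Loc

theorem pairMask_high (x y : V) {k : ℕ} (hk : 81 ≤ k) : (pairMask x y).testBit k = false := by
  have h : ∀ (m : ℕ) (w : V), (m ||| 1 <<< (w : ℕ)).testBit k = m.testBit k := by
    intro m w
    have : (w : ℕ) ≠ k := by omega
    rw [Nat.testBit_or, Nat.one_shiftLeft, Nat.testBit_two_pow]
    simp [this]
  simp only [pairMask, show List.finRange 3 = [0, 1, 2] from rfl, List.foldl_cons, List.foldl_nil, h,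
    Nat.zero_testBit]

namespace Loc

variable {G : Type*} [Group G] [Finite G] (L : Loc G)
include L

theorem sing_of_meets {p : L.Pt} (hp : p ≠ L.o) {x : V} (hx : L.Meets p x) : x = 0 ∨ Sing x := by
  rcases kind_cases x with h | h | h
  · exact Or.inl h
  · exact Or.inr h
  · exact absurd (L.meets_nsing h hx) hp

theorem line_unique {p : L.Pt} (hp : p ≠ L.o) {i j : Fin 10} (hi : L.Meets p (rep i))
    (hj : L.Meets p (rep j)) : i = j := by
  rcases sing_span (rep i) (rep j) (rep_facts i).1 (rep_facts j).1 with h | h | h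
  · exact rep_inj i j (Or.inl h.symm)
  · exact (rep_inj j i (Or.inr h)).symm
  · exact absurd (L.meets_nsing h (L.meets_add hi hj)) hp

theorem meets_line {p : L.Pt} (hp : p ≠ L.o) {i : Fin 10} (hi : L.Meets p (rep i)) {x : V}
    (hx : L.Meets p x) : x = 0 ∨ x = rep i ∨ x = negV (rep i) := by
  refine (L.sing_of_meets hp hx).imp id fun h => ?_
  obtain ⟨j, h'⟩ := rep_cover x h
  have hj : L.Meets p (rep j) := by
    rcases h' with rfl | rfl
    · exact hx
    · have := L.meets_neg hx
      rwa [(addV_zero (rep j)).2.2.2.2] at this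
  rwa [← L.line_unique hp hi hj] at h'

theorem exists_app_rep (i : Fin 10) {y : V} (hy : Sing y) : ∃ a, app a (rep i) = y := by
  obtain ⟨j, hj⟩ := sing_trans (rep i) (rep_facts i).1
  obtain ⟨k, hk⟩ := sing_trans y hy
  set m := L.nl (singWit k) * (L.nl (singWit j))⁻¹
  obtain ⟨a, ha⟩ := L.act_of_mem (mul_mem (L.nl_mem (singWit k)) (inv_mem (L.nl_mem (singWit j))))
  refine ⟨a, L.e_inj ?_⟩
  rw [← ha, ← hj, ← hk, ← L.nl_spec, ← L.nl_spec]
  group

/-- The points whose conjugate contains a singular vector: an orbit of its centraliser. -/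
theorem meets_rep_eq (i : Fin 10) :
    {p : L.Pt | L.Meets p (rep i)} = MulAction.orbit (centralizer ({L.e (rep i)} : Set G)) L.o := by
  ext p
  constructor
  · rintro ⟨g, rfl, y, hy⟩
    have hy0 : y ≠ 0 := fun e => by
      rw [e, L.e_zero, mul_one, mul_inv_cancel] at hy
      exact L.e_ne_one (sing_ne _ (rep_facts i).1).1 hy.symm
    obtain ⟨a, ha⟩ := L.exists_app_rep i ((L.kind_conj hy hy0).2.1.1 (rep_facts i).1)
    refine ⟨⟨g * L.nl a, L.mem_centralizer_e.2 (mul_inv_eq_iff_eq_mul.1 ?_)⟩, ?_⟩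
    · calc g * L.nl a * L.e (rep i) * (g * L.nl a)⁻¹ = g * (L.nl a * L.e (rep i) * (L.nl a)⁻¹) * g⁻¹ := by group
        _ = _ := by rw [L.nl_spec, ha, hy]
    · show (g * L.nl a) • L.o = g • L.o
      rw [mul_smul, L.smul_o_eq.2 (L.nl_mem a)]
  · rintro ⟨⟨c, hc⟩, rfl⟩
    exact ⟨c, rfl, rep i, by rw [L.mem_centralizer_e.1 hc, mul_inv_cancel_right]⟩

/-- The three near points of a singular line. -/
def line (i : Fin 10) : Set L.Pt := {p | p ≠ L.o ∧ L.Meets p (rep i)}

theorem card_line (i : Fin 10) : (L.line i).ncard = 3 := by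
  classical
  set C := centralizer ({L.e (rep i)} : Set G)
  have h1 := (MulAction.stabilizer C L.o).index_mul_card
  rw [MulAction.index_stabilizer, ← L.meets_rep_eq, L.cent_sing _ (rep_facts i).1] at h1
  have h2 : Nat.card (MulAction.stabilizer C L.o) = Nat.card ↥(L.N ⊓ C) :=
    Nat.card_eq_of_bijective (fun x : MulAction.stabilizer C L.o =>
        (⟨x.1.1, L.smul_o_eq.1 x.2, x.1.2⟩ : ↥(L.N ⊓ C)))
      ⟨fun x y e => Subtype.ext (Subtype.ext (congrArg (fun u : ↥(L.N ⊓ C) => u.1) e)),
        fun x => ⟨⟨⟨x.1, x.2.2⟩, L.smul_o_eq.2 x.2.1⟩, rfl⟩⟩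
  rw [h2, L.card_cent_N, if_neg (sing_ne _ (rep_facts i).1).2, if_pos (rep_facts i).1] at h1
  have hset : L.line i = {p : L.Pt | L.Meets p (rep i)} \ {L.o} := by
    ext p
    simp [line, and_comm]
  rw [hset, Set.ncard_sdiff_singleton_of_mem (show L.o ∈ {p : L.Pt | L.Meets p (rep i)} from L.meets_o _)]
  omega

theorem line_smul {i : Fin 10} {p : L.Pt} (hp : p ∈ L.line i) (u : V) : L.e u • p ∈ L.line i :=
  ⟨L.e_smul_ne hp.1, L.meets_e_smul u hp.2⟩

theorem orbit_line {i : Fin 10} {p : L.Pt} (hp : p ∈ L.line i) :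
    (L.J p).card = 27 ∧ (Set.range fun u => L.e u • p) = L.line i := by
  classical
  have hsub : (Set.range fun u => L.e u • p) ⊆ L.line i := by
    rintro _ ⟨u, rfl⟩
    exact L.line_smul hp u
  have h1 := Set.ncard_le_ncard hsub
  rw [L.card_line] at h1
  have h2 : (L.J p).card ≤ 9 * ({0, rep i, negV (rep i)} : Finset V).card :=
    L.card_J_le _ fun x hx => by
      have := L.meets_line hp.1 hp.2 hx
      simpa using this
  have h3 : ({0, rep i, negV (rep i)} : Finset V).card ≤ 3 := Finset.card_le_three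
  have h4 := L.orbit_mul_J p
  set r := (Set.range fun u => L.e u • p).ncard with hr
  have hr3 : r = 3 := by
    interval_cases r <;> omega
  exact ⟨by rw [hr3] at h4; omega, Set.eq_of_subset_of_ncard_le hsub (by rw [L.card_line, ← hr, hr3])⟩

theorem line_trans {i : Fin 10} {p q : L.Pt} (hp : p ∈ L.line i) (hq : q ∈ L.line i) :
    ∃ u, L.e u • p = q := by
  rw [← (L.orbit_line hp).2] at hq
  exact hq

/-- The stabiliser in `E` of a near point is the kernel of the linear form of its line. -/
theorem J_line {i : Fin 10} {p : L.Pt} (hp : p ∈ L.line i) :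
    L.J p = Finset.univ.filter fun x => fn i x = 0 := by
  classical
  have hinv : ∀ a, app a (rep i) = rep i → ∀ x ∈ L.J p, app a x ∈ L.J p := by
    intro a ha x hx
    have hq : L.nl a • p ∈ L.line i :=
      ⟨L.n_smul_ne (L.nl_mem a) hp.1, by
        have := L.meets_smul (L.nl_spec a) hp.2
        rwa [ha] at this⟩
    obtain ⟨u, hu⟩ := L.line_trans hp hq
    have hJ : L.J (L.nl a • p) = L.J p := by rw [← hu, L.J_e_smul]
    rw [← hJ, L.J_smul (L.nl_spec a)]
    exact Finset.mem_image_of_mem _ hx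
  have hcomm : ∀ a, app a (rep i) = rep i → ∀ y, addV (app a (app a y)) (negV y) ∈ L.J p := by
    intro a ha y
    by_cases hy : y ∈ L.J p
    · exact L.J_add (hinv a ha _ (hinv a ha y hy)) (L.J_neg hy)
    have hay : app a y ∉ L.J p := by
      intro h
      apply hy
      -- the map permutes the finite set `J p`
      have himg : (L.J p).image (app a) = L.J p := Finset.eq_of_subset_of_card_le
        (fun z hz => by
          obtain ⟨x, hx, rfl⟩ := Finset.mem_image.1 hz
          exact hinv a ha x hx)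
        (by rw [Finset.card_image_of_injective _ (L.app_injective a)])
      rw [← himg] at h
      obtain ⟨x, hx, e⟩ := Finset.mem_image.1 h
      rwa [← L.app_injective a e]
    rw [L.mem_J] at hy hay
    -- three distinct points of the line
    have h3 : ({p, L.e y • p, L.e (negV y) • p} : Set L.Pt) = L.line i := by
      refine Set.eq_of_subset_of_ncard_le ?_ ?_
      · rintro q (rfl | rfl | rfl)
        exacts [hp, L.line_smul hp y, L.line_smul hp _]
      · have e1 : p ≠ L.e y • p := fun e => hy e.symm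
        have e2 : p ≠ L.e (negV y) • p := fun e => hy (by
          conv_lhs => rw [e, L.e_smul_smul, (addV_zero y).2.2.1, L.e_zero, one_smul])
        have e3 : L.e y • p ≠ L.e (negV y) • p := fun e => hy (by
          have e' := congrArg (fun q => L.e y • q) e
          simp only [L.e_smul_smul, (addV_zero y).2.2.1, (addV_zero y).2.2.2.1, L.e_zero, one_smul] at e'
          exact absurd e'.symm e2)
        rw [L.card_line, Set.ncard_insert_of_notMem (by simp [e1, e2]), Set.ncard_pair e3]
    have hmem := L.line_smul hp (app a y)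
    rw [← h3] at hmem
    simp only [Set.mem_insert_iff, Set.mem_singleton_iff] at hmem
    rcases hmem with h | h | h
    · exact absurd h hay
    · have hj : addV (app a y) (negV y) ∈ L.J p := by
        rw [L.mem_J, L.e_comm_add, ← L.e_smul_smul, h, L.e_smul_smul, L.e_comm_add, (addV_zero y).2.2.1, L.e_zero,
          one_smul]
      have := L.J_add (hinv a ha _ hj) hj
      rwa [L.app_add, L.app_neg, L.telescope] at this
    · have hj : addV (app a y) y ∈ L.J p := by
        rw [L.mem_J, L.e_comm_add, ← L.e_smul_smul, h, L.e_smul_smul, (addV_zero y).2.2.1, L.e_zero, one_smul]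
      have := L.J_add (hinv a ha _ hj) (L.J_neg hj)
      rwa [L.app_add, L.telescope'] at this
  have hsub : (Finset.univ.filter fun x => fn i x = 0) ⊆ L.J p := by
    intro x hx
    obtain ⟨a, b, c, rfl⟩ := perp_gen i x (Finset.mem_filter.1 hx).2
    have hv : ∀ j, perpVec i j ∈ L.J p := fun j => hcomm (perpMap i j) (perp_mem i j) (perpSrc i j)
    have hs : ∀ (k : Fin 3) j, smulV k (perpVec i j) ∈ L.J p := fun k j => by
      have h := (comb_self (perpVec i j) k 0).2
      simp only [List.mem_cons, List.not_mem_nil, or_false] at h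
      rcases h with e | e | e <;> rw [e]
      exacts [L.J_zero p, hv j, L.J_neg (hv j)]
    exact L.J_add (L.J_add (hs a 0) (hs b 1)) (hs c 2)
  exact (Finset.eq_of_subset_of_card_le hsub (by rw [(L.orbit_line hp).1, card_kerFn])).symm

/-- The far points. -/
def far : Set L.Pt := {p | p ≠ L.o ∧ ∀ i, p ∉ L.line i}

theorem cases_pt (p : L.Pt) : p = L.o ∨ (∃ i, p ∈ L.line i) ∨ p ∈ L.far := by
  by_cases h : p = L.o
  · exact Or.inl h
  by_cases h' : ∃ i, p ∈ L.line i
  · exact Or.inr (Or.inl h')
  · exact Or.inr (Or.inr ⟨h, fun i hi => h' ⟨i, hi⟩⟩)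

theorem meets_far {p : L.Pt} (hp : p ∈ L.far) {x : V} (hx : L.Meets p x) : x = 0 := by
  refine (L.sing_of_meets hp.1 hx).resolve_right fun h => ?_
  obtain ⟨i, hi⟩ := rep_cover x h
  refine hp.2 i ⟨hp.1, ?_⟩
  rcases hi with rfl | rfl
  · exact hx
  · have := L.meets_neg hx
    rwa [(addV_zero (rep i)).2.2.2.2] at this

theorem far_smul {p : L.Pt} (hp : p ∈ L.far) {n : G} (hn : n ∈ L.N) : n • p ∈ L.far := by
  refine ⟨L.n_smul_ne hn hp.1, fun i hi => ?_⟩
  obtain ⟨a, ha⟩ := L.act_of_mem (inv_mem hn)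
  have h := L.meets_smul ha hi.2
  rw [inv_smul_smul] at h
  have h0 := L.meets_far hp h
  exact L.e_ne_one (sing_ne _ (rep_facts i).1).1 (by
    have := ha (rep i)
    rw [h0, L.e_zero, conj_eq_one_iff] at this
    exact this)

theorem card_far : L.far.ncard = 81 := by
  classical
  haveI : Fintype L.Pt := Fintype.ofFinite _
  have hU : (Set.univ : Set L.Pt) = ({L.o} ∪ ⋃ i, L.line i) ∪ L.far := by
    ext p
    simp only [Set.mem_univ, Set.mem_union, Set.mem_singleton_iff, Set.mem_iUnion, true_iff]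
    rcases L.cases_pt p with h | h | h
    exacts [Or.inl (Or.inl h), Or.inl (Or.inr h), Or.inr h]
  have hd1 : Disjoint ({L.o} : Set L.Pt) (⋃ i, L.line i) := by
    simp [Set.disjoint_singleton_left, line]
  have hd2 : Disjoint ({L.o} ∪ ⋃ i, L.line i) L.far := by
    rw [Set.disjoint_left]
    rintro p (rfl | hp) hf
    · exact hf.1 rfl
    · obtain ⟨i, hi⟩ := Set.mem_iUnion.1 hp
      exact hf.2 i hi
  have hpair : Pairwise (Function.onFun Disjoint fun i => L.line i) := fun i j hij => Set.disjoint_left.2 fun p hi hj =>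
    hij (L.line_unique hi.1 hi.2 hj.2)
  have h30 : (⋃ i, L.line i).ncard = 30 := by
    rw [Set.ncard_iUnion_of_finite (fun _ => Set.toFinite _) hpair, finsum_eq_sum_of_fintype]
    simp [L.card_line]
  have := congrArg Set.ncard hU
  rw [Set.ncard_univ, L.card_pt, Set.ncard_union_eq hd2, Set.ncard_union_eq hd1, Set.ncard_singleton, h30] at this
  omega

/-- `E` is regular on the far points. -/
theorem J_far {p : L.Pt} (hp : p ∈ L.far) : L.J p = {0} := by
  classical
  refine Finset.eq_singleton_iff_unique_mem.2 ⟨L.J_zero p, fun x hx => ?_⟩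
  by_contra hx0
  have hle : (L.J p).card ≤ 9 := (L.card_J_le {0} fun y hy => by simp [L.meets_far hp hy]).trans (by simp)
  -- the stabiliser is one of the small subgroups
  obtain ⟨s, hs⟩ : ∃ s : Fin 171, ∀ z : V, z ∈ L.J p ↔ (spanMask s).testBit z = true := by
    have hcomb : ∀ u v : V, u ∈ L.J p → v ∈ L.J p → ∀ z : V, (pairMask u v).testBit z = true → z ∈ L.J p := by
      intro u v hu hv z hz
      obtain ⟨i, j, rfl⟩ := (testBit_pairMask u v z).1 hz
      have hm : ∀ (k : Fin 3) (w : V), w ∈ L.J p → smulV k w ∈ L.J p := fun k w hw => by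
        have h := (comb_self w k 0).2
        simp only [List.mem_cons, List.not_mem_nil, or_false] at h
        rcases h with e | e | e <;> rw [e]
        exacts [L.J_zero p, hw, L.J_neg hw]
      exact L.J_add (hm i u hu) (hm j v hv)
    by_cases hsp : ∀ z ∈ L.J p, (pairMask x 0).testBit z = true
    · exact ⟨spanIdx x 0, fun z => ⟨fun h => span_spec x 0 ▸ hsp z h,
        fun h => hcomb x 0 hx (L.J_zero p) z (span_spec x 0 ▸ h)⟩⟩
    · push Not at hsp
      obtain ⟨y, hy, hy'⟩ := hsp
      refine ⟨spanIdx x y, ?_⟩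
      have hsub : (Finset.univ.filter fun z : V => (pairMask x y).testBit z = true) ⊆ L.J p := fun z hz =>
        hcomb x y hx hy z (Finset.mem_filter.1 hz).2
      have hc : 9 ≤ (Finset.univ.filter fun z : V => (pairMask x y).testBit z = true).card := by
        have hinj : Function.Injective fun k : Fin 3 × Fin 3 => comb x y k.1 k.2 := by
          rintro ⟨i, j⟩ ⟨i', j'⟩ e
          exact L.comb_inj hx0 (fun k e => hy' ((testBit_pairMask x 0 y).2 ⟨k, 0, by rw [(comb_self x k 0).1, e]⟩)) e
        refine le_trans ?_ (Finset.card_le_card (s := Finset.univ.image fun k : Fin 3 × Fin 3 => comb x y k.1 k.2) ?_)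
        · rw [Finset.card_image_of_injective _ hinj]; simp
        · intro z hz
          obtain ⟨⟨i, j⟩, -, rfl⟩ := Finset.mem_image.1 hz
          exact Finset.mem_filter.2 ⟨Finset.mem_univ _, (testBit_pairMask x y _).2 ⟨i, j, rfl⟩⟩
      have heq := Finset.eq_of_subset_of_card_le hsub (by omega)
      intro z
      rw [← heq, Finset.mem_filter, span_spec]
      simp
  have hcard : (L.J p).card = (List.finRange 81).countP (fun z : V => (spanMask s).testBit z) := by
    rw [List.countP_eq_length_filter, ← List.toFinset_card_of_nodup ((List.nodup_finRange 81).filter _)]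
    congr 1
    ext z
    simp [hs]
  rcases wit_spec s with h1 | ⟨hnd, -, hlt⟩
  · exact span_ne s x hx0 ((hs x).1 hx) h1
  -- the images of `p` have pairwise disjoint orbits
  let O : Fin 360 → Set L.Pt := fun a => Set.range fun u => L.e u • (L.nl a • p)
  have hO : ∀ a, O a ⊆ L.far := by
    rintro a _ ⟨u, rfl⟩
    exact L.far_smul (L.far_smul hp (L.nl_mem a)) (L.e_mem_N u)
  have hcardO : ∀ a, (O a).ncard = 81 / (L.J p).card := by
    intro a
    have h := L.orbit_mul_J (L.nl a • p)
    rw [L.J_smul (L.nl_spec a), Finset.card_image_of_injective _ (L.app_injective a)] at h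
    exact (Nat.div_eq_of_eq_mul_left (Finset.card_pos.2 ⟨0, L.J_zero p⟩) h.symm).symm
  have hdis : ∀ a ∈ witList s, ∀ b ∈ witList s, a ≠ b → Disjoint (O a) (O b) := by
    intro a ha b hb hab
    refine Set.disjoint_left.2 fun q hqa hqb => hab ?_
    obtain ⟨u, rfl⟩ := hqa
    obtain ⟨v, hv⟩ := hqb
    have hJ : L.J (L.nl a • p) = L.J (L.nl b • p) := by
      rw [← L.J_e_smul u (L.nl a • p), ← L.J_e_smul v (L.nl b • p), show L.e v • L.nl b • p = L.e u • L.nl a • p from hv]
    rw [L.J_smul (L.nl_spec a), L.J_smul (L.nl_spec b)] at hJ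
    have himg : ∀ c, ∀ z : V, (imgMask c s).testBit z = true ↔ z ∈ (L.J p).image (app c) := by
      intro c z
      rw [imgMask, testBit_pairMask, Finset.mem_image]
      constructor
      · rintro ⟨i, j, rfl⟩
        refine ⟨comb (spanGen s).1 (spanGen s).2 i j, (hs _).2 ?_, L.app_comb c _ _ i j⟩
        rw [← span_gen, testBit_pairMask]
        exact ⟨i, j, rfl⟩
      · rintro ⟨w, hw, rfl⟩
        obtain ⟨i, j, rfl⟩ := (testBit_pairMask _ _ w).1 (by rw [span_gen]; exact (hs w).1 hw)
        exact ⟨i, j, (L.app_comb c _ _ i j).symm⟩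
    have hmask : imgMask a s = imgMask b s := by
      refine Nat.eq_of_testBit_eq fun k => ?_
      by_cases hk : k < 81
      · have := himg a ⟨k, hk⟩
        rw [hJ, ← himg b ⟨k, hk⟩] at this
        exact Bool.eq_iff_iff.2 this
      · simp only [imgMask]
        rw [pairMask_high _ _ (by omega), pairMask_high _ _ (by omega)]
    exact List.inj_on_of_nodup_map hnd ha hb hmask
  have hsum : (⋃ a ∈ (witList s).toFinset, O a).ncard = (witList s).length * (81 / (L.J p).card) := by
    have h := (witList s).toFinset.finite_toSet.ncard_biUnion (s := O) (fun i _ => Set.toFinite _)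
      (fun a ha b hb hab => hdis a (List.mem_toFinset.1 ha) b (List.mem_toFinset.1 hb) hab)
    simp only [Finset.mem_coe] at h
    rw [h]
    rw [finsum_mem_finset_eq_sum, Finset.sum_congr rfl fun a _ => hcardO a, Finset.sum_const, smul_eq_mul,
      List.toFinset_card_of_nodup hnd.of_map]
  have hbig : (⋃ a ∈ (witList s).toFinset, O a).ncard ≤ 81 :=
    L.card_far ▸ Set.ncard_le_ncard (Set.iUnion₂_subset fun a _ => hO a)
  rw [hsum, hcard] at hbig
  omega

theorem far_trans {p q : L.Pt} (hp : p ∈ L.far) (hq : q ∈ L.far) : ∃ u, L.e u • p = q := by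
  have h := L.orbit_mul_J p
  rw [L.J_far hp, Finset.card_singleton, mul_one] at h
  have hsub : (Set.range fun u => L.e u • p) ⊆ L.far := by
    rintro _ ⟨u, rfl⟩
    exact L.far_smul hp (L.e_mem_N u)
  have := Set.eq_of_subset_of_ncard_le hsub (by rw [L.card_far, h])
  rw [← this] at hq
  exact hq

theorem exists_far : ∃ p, p ∈ L.far := Set.nonempty_of_ncard_ne_zero (by rw [L.card_far]; norm_num)

end Loc

end Cfsg.Agent.U43Rec
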